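import Mathlib

/-!
An odd order subgroup normalised by two commuting involutions `x`, `w` is the product of pieces of
the centralisers of `x * w`, `w` and `x`.
-/

open Subgroup

set_option autoImplicit false
set_option linter.unusedSectionVars false

namespace CfsgLib.FourTransOdd

variable {G : Type*} [Group G] (H : Subgroup G)

/-- Square root in a group of odd order. -/
noncomputable def sr (z : G) : G := z ^ ((Nat.card H + 1) / 2)

variable {H}

theorem sr_mem {z : G} (hz : z ∈ H) : sr H z ∈ H := H.pow_mem hz _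

theorem pow_card_mem {z : G} (hz : z ∈ H) : z ^ Nat.card H = 1 :=
  congrArg Subtype.val (pow_card_eq_one' (x := (⟨z, hz⟩ : H)))

theorem sr_sq (hodd : Odd (Nat.card H)) {z : G} (hz : z ∈ H) : sr H z * sr H z = z := by
  obtain ⟨m, hm⟩ := hodd
  rw [sr, ← pow_add, show (Nat.card H + 1) / 2 + (Nat.card H + 1) / 2 = Nat.card H + 1 by omega,
    pow_succ, pow_card_mem hz, one_mul]

theorem sq_inj (hodd : Odd (Nat.card H)) {a b : G} (ha : a ∈ H) (hb : b ∈ H) (h : a * a = b * b) :
    a = b := by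
  obtain ⟨m, hm⟩ := hodd
  have key : ∀ z ∈ H, (z * z) ^ (m + 1) = z := fun z hz => by
    rw [← pow_two, ← pow_mul, show 2 * (m + 1) = Nat.card H + 1 by omega, pow_succ,
      pow_card_mem hz, one_mul]
  rw [← key a ha, h, key b hb]

theorem eq_one_of_sq (hodd : Odd (Nat.card H)) {a : G} (ha : a ∈ H) (h : a * a = 1) : a = 1 :=
  sq_inj hodd ha H.one_mem (by rw [h, mul_one])

variable (x w : G)

/-- Elements centralising `x * w` and inverted by `x`. -/
def partU (H : Subgroup G) : Set G := {u | u ∈ H ∧ Commute (x * w) u ∧ x * u * x = u⁻¹}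

/-- Elements centralising `w` and inverted by `x`. -/
def partV (H : Subgroup G) : Set G := {v | v ∈ H ∧ Commute w v ∧ x * v * x = v⁻¹}

/-- Elements centralising `x`. -/
def partK (H : Subgroup G) : Set G := {k | k ∈ H ∧ Commute x k}

/-- The hypotheses on the pair of involutions. -/
structure Klein (H : Subgroup G) : Prop where
  xx : x * x = 1
  ww : w * w = 1
  comm : x * w = w * x
  xH : ∀ h ∈ H, x * h * x ∈ H
  wH : ∀ h ∈ H, w * h * w ∈ H
  odd : Odd (Nat.card H)

variable {x w}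

theorem conj_hom (hx : x * x = 1) (a b : G) : x * (a * b) * x = (x * a * x) * (x * b * x) := by
  rw [show x * a * x * (x * b * x) = x * a * (x * x) * b * x by group, hx]; group

theorem conj_inv (hx : x * x = 1) (a : G) : x * a⁻¹ * x = (x * a * x)⁻¹ := by
  rw [mul_inv_rev, mul_inv_rev, (eq_inv_of_mul_eq_one_left hx).symm, mul_assoc]

theorem conj_pow' (hx : x * x = 1) (a : G) (n : ℕ) : x * a ^ n * x = (x * a * x) ^ n := by
  induction n with
  | zero => rw [pow_zero, pow_zero, mul_one, hx]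
  | succ n ih => rw [pow_succ, pow_succ, conj_hom hx, ih]

theorem conj_conj (hx : x * x = 1) (a : G) : x * (x * a * x) * x = a := by
  rw [show x * (x * a * x) * x = (x * x) * a * (x * x) by group, hx, one_mul, mul_one]

theorem commute_iff (hx : x * x = 1) (a : G) : Commute x a ↔ x * a * x = a := by
  constructor
  · intro h; rw [h.eq, mul_assoc, hx, mul_one]
  · intro h
    show x * a = a * x
    calc x * a = (x * a * x) * x := by rw [mul_assoc _ x x, hx, mul_one]
      _ = a * x := by rw [h]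

namespace Klein

variable {H : Subgroup G} (V : Klein x w H)
include V

theorem yy : (x * w) * (x * w) = 1 := by
  rw [show x * w * (x * w) = x * (w * x) * w by group, ← V.comm, ← mul_assoc, V.xx, one_mul, V.ww]

theorem y_conj (a : G) : (x * w) * a * (x * w) = x * (w * a * w) * x := by
  conv_lhs => arg 2; rw [V.comm]
  group

theorem decomp {h : G} (hh : h ∈ H) :
    ∃ u ∈ partU x w H, ∃ v ∈ partV x w H, ∃ k ∈ partK x H, h = u * v * k := by
  have hy := V.yy
  have hxy : x * (x * w) = (x * w) * x := by rw [mul_assoc x w x, ← V.comm]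
  set y := x * w with hydef
  let i := h * (x * h * x)⁻¹
  have hi : i ∈ H := H.mul_mem hh (H.inv_mem (V.xH h hh))
  have hix : x * i * x = i⁻¹ := by
    show x * (h * (x * h * x)⁻¹) * x = _
    rw [conj_hom V.xx, conj_inv V.xx, conj_conj V.xx, mul_inv_rev, inv_inv]
  have hyH : ∀ a ∈ H, y * a * y ∈ H := fun a ha => by
    rw [V.y_conj]; exact V.xH _ (V.wH _ ha)
  let j := y * i * y
  have hj : j ∈ H := hyH i hi
  have hjx : x * j * x = j⁻¹ := by
    show x * (y * i * y) * x = (y * i * y)⁻¹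
    rw [← conj_inv hy, ← hix]
    rw [show x * (y * i * y) * x = (x * y) * i * (y * x) by group,
      show y * (x * i * x) * y = (y * x) * i * (x * y) by group, hxy]
  -- `t` is the unique element of `H` with `t * i⁻¹ * t = j`
  let t := sr H (j * i⁻¹) * i
  have hji : j * i⁻¹ ∈ H := H.mul_mem hj (H.inv_mem hi)
  have ht : t ∈ H := H.mul_mem (sr_mem hji) hi
  have huniq : ∀ s ∈ H, s * i⁻¹ * s = j → s = t := by
    intro s hs hsj
    have : s * i⁻¹ = sr H (j * i⁻¹) := sq_inj V.odd (H.mul_mem hs (H.inv_mem hi)) (sr_mem hji) (by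
      rw [sr_sq V.odd hji, ← hsj]; group)
    show s = sr H (j * i⁻¹) * i
    rw [← this, inv_mul_cancel_right]
  have htj : t * i⁻¹ * t = j := by
    show sr H (j * i⁻¹) * i * i⁻¹ * (sr H (j * i⁻¹) * i) = j
    rw [mul_inv_cancel_right, ← mul_assoc, sr_sq V.odd hji, inv_mul_cancel_right]
  have htx : x * t * x = t⁻¹ := by
    rw [eq_comm, inv_eq_iff_eq_inv, eq_comm]
    refine huniq _ (H.inv_mem (V.xH t ht)) ?_
    have e := congrArg (fun a => (x * a * x)⁻¹) htj
    simp only [conj_hom V.xx, conj_inv V.xx, hix, hjx, mul_inv_rev, inv_inv] at e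
    simpa [mul_assoc] using e
  have hty : y * t * y = t := by
    refine huniq _ (hyH t ht) ?_
    have e := congrArg (fun a => y * a * y) htj
    simp only [conj_hom hy, conj_inv hy] at e
    have e1 : y * j * y = i := conj_conj hy i
    rw [e1] at e
    -- `t' j⁻¹ t' = i` gives `t' i⁻¹ t' = j`
    -- `t' j⁻¹ t' = i` gives `t' i⁻¹ t' = j`
    rw [← e]; group; rfl
  let u := sr H t
  have hu : u ∈ H := sr_mem ht
  have hux : x * u * x = u⁻¹ := by
    show x * t ^ _ * x = (t ^ _)⁻¹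
    rw [conj_pow' V.xx, htx, inv_pow]
  have huy : Commute y u := by
    refine Commute.pow_right ?_ _
    exact (commute_iff hy t).2 hty
  let v0 := u⁻¹ * i * u⁻¹
  have hv0 : v0 ∈ H := H.mul_mem (H.mul_mem (H.inv_mem hu) hi) (H.inv_mem hu)
  have hv0x : x * v0 * x = v0⁻¹ := by
    simp only [v0, conj_hom V.xx, conj_inv V.xx, hux, hix, mul_inv_rev, inv_inv, mul_assoc]
  have huu : u * u = t := sr_sq V.odd ht
  have hv0y : y * v0 * y = v0⁻¹ := by
    simp only [v0, conj_hom hy, conj_inv hy, (commute_iff hy u).1 huy, mul_inv_rev, inv_inv]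
    show u⁻¹ * j * u⁻¹ = u * (i⁻¹ * u)
    rw [← htj, ← huu]; group
  let v := sr H v0
  have hv : v ∈ H := sr_mem hv0
  have hvx : x * v * x = v⁻¹ := by
    show x * v0 ^ _ * x = (v0 ^ _)⁻¹
    rw [conj_pow' V.xx, hv0x, inv_pow]
  have hvy : y * v * y = v⁻¹ := by
    show y * v0 ^ _ * y = (v0 ^ _)⁻¹
    rw [conj_pow' hy, hv0y, inv_pow]
  have hvw : Commute w v := by
    rw [commute_iff V.ww]
    have hw' : w = x * y := by rw [hydef, ← mul_assoc, V.xx, one_mul]
    calc w * v * w = (x * y) * v * (x * y) := by rw [← hw']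
      _ = (x * y) * v * (y * x) := by rw [hxy]
      _ = x * (y * v * y) * x := by group
      _ = v := by rw [hvy, conj_inv V.xx, hvx, inv_inv]
  have hvv : v * v = v0 := sr_sq V.odd hv0
  let k := (u * v)⁻¹ * h
  refine ⟨u, ⟨hu, huy, hux⟩, v, ⟨hv, hvw, hvx⟩, k, ⟨H.mul_mem (H.inv_mem (H.mul_mem hu hv)) hh, ?_⟩,
    (mul_inv_cancel_left _ _).symm⟩
  rw [commute_iff V.xx]
  show x * ((u * v)⁻¹ * h) * x = _
  rw [conj_hom V.xx, conj_inv V.xx, conj_hom V.xx, hux, hvx]
  have hi' : h * (x * h * x)⁻¹ = u * v * (v * u) := by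
    rw [show u * v * (v * u) = u * (v * v) * u by group, hvv]
    show i = u * (u⁻¹ * i * u⁻¹) * u
    group
  have hx' : x * h * x = (u * v * (v * u))⁻¹ * h := by
    rw [← hi']; group
  rw [hx']; show _ = (u * v)⁻¹ * h; group

theorem decomp_unique {u v k u' v' k' : G} (hu : u ∈ partU x w H) (hv : v ∈ partV x w H) (hk : k ∈ partK x H)
    (hu' : u' ∈ partU x w H) (hv' : v' ∈ partV x w H) (hk' : k' ∈ partK x H)
    (h : u * v * k = u' * v' * k') : u = u' ∧ v = v' ∧ k = k' := by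
  have key : ∀ a b c, a ∈ partU x w H → b ∈ partV x w H → c ∈ partK x H →
      (a * b * c) * (x * (a * b * c) * x)⁻¹ = a * (b * b) * a := by
    intro a b c ha hb hc
    rw [conj_hom V.xx, conj_hom V.xx, ha.2.2, hb.2.2, (commute_iff V.xx c).1 hc.2]
    group
  have e1 := key u v k hu hv hk
  rw [h, key u' v' k' hu' hv' hk'] at e1
  -- apply `x * w`
  have hy := V.yy
  have hyv : ∀ b, b ∈ partV x w H → (x * w) * b * (x * w) = b⁻¹ := fun b hb => by
    rw [V.y_conj, (commute_iff V.ww b).1 hb.2.1, hb.2.2]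
  have e2 := congrArg (fun a => (x * w) * a * (x * w)) e1
  simp only [conj_hom hy, hyv v hv, hyv v' hv', (commute_iff hy u).1 hu.2.1,
    (commute_iff hy u').1 hu'.2.1] at e2
  have e3 : (u * u) * (u * (v * v) * u)⁻¹ * (u * u) = (u' * u') * (u * (v * v) * u)⁻¹ * (u' * u') := by
    have a1 : u * (v⁻¹ * v⁻¹) * u = (u * u) * (u * (v * v) * u)⁻¹ * (u * u) := by group
    have a2 : u' * (v'⁻¹ * v'⁻¹) * u' = (u' * u') * (u' * (v' * v') * u')⁻¹ * (u' * u') := by group
    rw [← a1, ← e2, a2, e1]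
  have huu : u * u = u' * u' := by
    have hi : (u * (v * v) * u)⁻¹ ∈ H :=
      H.inv_mem (H.mul_mem (H.mul_mem hu.1 (H.mul_mem hv.1 hv.1)) hu.1)
    refine mul_right_cancel (sq_inj V.odd (H.mul_mem (H.mul_mem hu.1 hu.1) hi)
      (H.mul_mem (H.mul_mem hu'.1 hu'.1) hi) ?_)
    rw [← mul_assoc _ (u * u), ← mul_assoc _ (u' * u'), e3]
  obtain rfl := sq_inj V.odd hu.1 hu'.1 huu
  obtain rfl := sq_inj V.odd hv.1 hv'.1 (mul_left_cancel (mul_right_cancel e1.symm))
  exact ⟨rfl, rfl, mul_left_cancel h⟩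

theorem card_eq : Nat.card H = Nat.card (partU x w H) * Nat.card (partV x w H) * Nat.card (partK x H) := by
  let f : partU x w H × partV x w H × partK x H → H := fun t =>
    ⟨t.1.1 * t.2.1.1 * t.2.2.1, H.mul_mem (H.mul_mem t.1.2.1 t.2.1.2.1) t.2.2.2.1⟩
  have hf : Function.Bijective f := by
    constructor
    · intro a b e
      obtain ⟨h1, h2, h3⟩ := V.decomp_unique a.1.2 a.2.1.2 a.2.2.2 b.1.2 b.2.1.2 b.2.2.2 (congrArg Subtype.val e)
      exact Prod.ext (Subtype.ext h1) (Prod.ext (Subtype.ext h2) (Subtype.ext h3))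
    · intro h
      obtain ⟨u, hu, v, hv, k, hk, e⟩ := V.decomp h.2
      exact ⟨(⟨u, hu⟩, ⟨v, hv⟩, ⟨k, hk⟩), Subtype.ext e.symm⟩
  rw [← Nat.card_congr (Equiv.ofBijective f hf), Nat.card_prod, Nat.card_prod, mul_assoc]

/-- The formula of Brauer and Wielandt. -/
theorem wielandt : Nat.card H * Nat.card ↥(H ⊓ centralizer {x} ⊓ centralizer {w}) ^ 2 =
    Nat.card ↥(H ⊓ centralizer {x * w}) * Nat.card ↥(H ⊓ centralizer {w}) *
      Nat.card ↥(H ⊓ centralizer {x}) := by
  have hxw : Commute x w := V.comm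
  have hnorm : ∀ c : G, Commute c x → Commute c w → Klein x w (H ⊓ centralizer {c}) := by
    intro c hcx hcw
    refine ⟨V.xx, V.ww, V.comm, fun h hh => ⟨V.xH h hh.1, ?_⟩, fun h hh => ⟨V.wH h hh.1, ?_⟩, ?_⟩
    · exact mem_centralizer_singleton_iff.2
        ((hcx.mul_right (show Commute c h from (mem_centralizer_singleton_iff.1 hh.2).symm)).mul_right hcx).eq.symm
    · exact mem_centralizer_singleton_iff.2
        ((hcw.mul_right (show Commute c h from (mem_centralizer_singleton_iff.1 hh.2).symm)).mul_right hcw).eq.symm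
    · exact V.odd.of_dvd_nat (card_dvd_of_le inf_le_left)
  have hmem : ∀ {K : Subgroup G} {c g : G}, g ∈ K ⊓ centralizer {c} ↔ g ∈ K ∧ Commute c g := fun {K c g} => by
    rw [mem_inf, mem_centralizer_singleton_iff]
    exact and_congr_right fun _ => ⟨fun h => h.symm, fun h => h.eq.symm⟩
  have sq_one : ∀ a ∈ H, x * a * x = a⁻¹ → Commute x a → a = 1 := fun a ha h hc => by
    rw [(commute_iff V.xx a).1 hc] at h
    exact eq_one_of_sq V.odd ha (mul_eq_one_iff_eq_inv.2 h)
  have e1 := V.card_eq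
  have e2 := (hnorm (x * w) ((Commute.refl x).mul_left hxw.symm) (hxw.mul_left (Commute.refl w))).card_eq
  have e3 := (hnorm w hxw.symm (Commute.refl w)).card_eq
  have hU : partU x w (H ⊓ centralizer {x * w}) = partU x w H := by
    ext a; exact ⟨fun h => ⟨h.1.1, h.2⟩, fun h => ⟨hmem.2 ⟨h.1, h.2.1⟩, h.2⟩⟩
  have hV1 : partV x w (H ⊓ centralizer {x * w}) = {1} := by
    refine Set.eq_singleton_iff_unique_mem.2 ⟨⟨one_mem _, Commute.one_right _, by rw [mul_one, V.xx, inv_one]⟩, fun a ha => ?_⟩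
    obtain ⟨h1, h2⟩ := hmem.1 ha.1
    refine sq_one a h1 ha.2.2 ?_
    have e : x = (x * w) * w := by rw [mul_assoc, V.ww, mul_one]
    exact e ▸ h2.mul_left ha.2.1
  have hU2 : partU x w (H ⊓ centralizer {w}) = {1} := by
    refine Set.eq_singleton_iff_unique_mem.2 ⟨⟨one_mem _, Commute.one_right _, by rw [mul_one, V.xx, inv_one]⟩, fun a ha => ?_⟩
    obtain ⟨h1, h2⟩ := hmem.1 ha.1
    refine sq_one a h1 ha.2.2 ?_
    have e : x = (x * w) * w := by rw [mul_assoc, V.ww, mul_one]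
    exact e ▸ ha.2.1.mul_left h2
  have hV2 : partV x w (H ⊓ centralizer {w}) = partV x w H := by
    ext a; exact ⟨fun h => ⟨h.1.1, h.2⟩, fun h => ⟨hmem.2 ⟨h.1, h.2.1⟩, h.2⟩⟩
  have hK : partK x H = ((H ⊓ centralizer {x} : Subgroup G) : Set G) := by
    ext a; exact hmem.symm
  have hK1 : partK x (H ⊓ centralizer {x * w}) = ((H ⊓ centralizer {x} ⊓ centralizer {w} : Subgroup G) : Set G) := by
    ext a
    simp only [partK, SetLike.mem_coe, Set.mem_ofPred_eq, hmem]
    have e : w = x * (x * w) := by rw [← mul_assoc, V.xx, one_mul]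
    exact ⟨fun h => ⟨⟨h.1.1, h.2⟩, e ▸ h.2.mul_left h.1.2⟩, fun h => ⟨⟨h.1.1, h.1.2.mul_left h.2⟩, h.1.2⟩⟩
  have hK2 : partK x (H ⊓ centralizer {w}) = ((H ⊓ centralizer {x} ⊓ centralizer {w} : Subgroup G) : Set G) := by
    ext a
    simp only [partK, SetLike.mem_coe, Set.mem_ofPred_eq, hmem]
    exact ⟨fun h => ⟨⟨h.1.1, h.2⟩, h.1.2⟩, fun h => ⟨⟨h.1.1, h.2⟩, h.1.2⟩⟩
  rw [hU, hV1, hK1] at e2
  rw [hU2, hV2, hK2] at e3
  rw [hK] at e1
  simp only [SetLike.coe_sort_coe, Nat.card_unique] at e1 e2 e3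
  rw [e1, e2, e3]; ring

end Klein

end CfsgLib.FourTransOdd
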