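import Mathlib
import Cfsg.Agent.Lib.FourTransOdd.Split

/-!
Quadruply transitive groups in which the stabiliser of four points has odd order: involutions.
-/

open Subgroup Equiv

set_option autoImplicit false
set_option linter.unusedSectionVars false

namespace CfsgLib.FourTransOdd

variable {α : Type*} [Fintype α] [DecidableEq α]

/-- Four distinct points. -/
structure D4 (a b c d : α) : Prop where
  ab : a ≠ b
  ac : a ≠ c
  ad : a ≠ d
  bc : b ≠ c
  bd : b ≠ d
  cd : c ≠ d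

omit [Fintype α] [DecidableEq α] in
theorem D4.mk' {a b c d : α} (h : a ≠ b ∧ a ≠ c ∧ a ≠ d ∧ b ≠ c ∧ b ≠ d ∧ c ≠ d) : D4 a b c d :=
  ⟨h.1, h.2.1, h.2.2.1, h.2.2.2.1, h.2.2.2.2.1, h.2.2.2.2.2⟩

/-- The elements of `G` fixing four given points. -/
def fix4 (G : Subgroup (Perm α)) (a b c d : α) : Subgroup (Perm α) where
  carrier := {g | g ∈ G ∧ g a = a ∧ g b = b ∧ g c = c ∧ g d = d}
  one_mem' := ⟨G.one_mem, rfl, rfl, rfl, rfl⟩
  mul_mem' := by
    rintro g h ⟨hg, g1, g2, g3, g4⟩ ⟨hh, h1, h2, h3, h4⟩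
    exact ⟨G.mul_mem hg hh, by rw [Perm.mul_apply, h1, g1], by rw [Perm.mul_apply, h2, g2],
      by rw [Perm.mul_apply, h3, g3], by rw [Perm.mul_apply, h4, g4]⟩
  inv_mem' := by
    rintro g ⟨hg, g1, g2, g3, g4⟩
    exact ⟨G.inv_mem hg, Perm.inv_eq_iff_eq.2 g1.symm, Perm.inv_eq_iff_eq.2 g2.symm,
      Perm.inv_eq_iff_eq.2 g3.symm, Perm.inv_eq_iff_eq.2 g4.symm⟩

omit [Fintype α] [DecidableEq α] in
theorem mem_fix4 {G : Subgroup (Perm α)} {a b c d : α} {g : Perm α} :
    g ∈ fix4 G a b c d ↔ g ∈ G ∧ g a = a ∧ g b = b ∧ g c = c ∧ g d = d := Iff.rfl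

/-- Quadruply transitive with odd stabilisers. -/
structure FT (G : Subgroup (Perm α)) : Prop where
  move : ∀ {a b c d a' b' c' d' : α}, D4 a b c d → D4 a' b' c' d' →
    ∃ g ∈ G, g a = a' ∧ g b = b' ∧ g c = c' ∧ g d = d'
  odd : ∀ {a b c d : α}, D4 a b c d → Odd (Nat.card (fix4 G a b c d))

omit [Fintype α] [DecidableEq α] in
theorem pow_apply_eq_self {g : Perm α} {a : α} (h : g a = a) (n : ℕ) : (g ^ n) a = a := by
  induction n with
  | zero => rfl
  | succ n ih => rw [pow_succ, Perm.mul_apply, h, ih]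

omit [Fintype α] [DecidableEq α] in
theorem pow_odd_apply {g : Perm α} {a : α} (h : g (g a) = a) {m : ℕ} (hm : Odd m) :
    (g ^ m) a = g a := by
  obtain ⟨k, rfl⟩ := hm
  rw [pow_succ, Perm.mul_apply, pow_mul]
  exact pow_apply_eq_self (by rw [pow_two, Perm.mul_apply, h]) k

omit [Fintype α] [DecidableEq α] in
theorem apply_apply_of_mul_self {x : Perm α} (hx : x * x = 1) (a : α) : x (x a) = a := by
  rw [← Perm.mul_apply, hx, Perm.one_apply]

namespace FT

variable {G : Subgroup (Perm α)} (F : FT G) {a b c d : α}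
include F

theorem invol_eq_one (h : D4 a b c d) {x : Perm α} (hx : x ∈ G) (hxx : x * x = 1)
    (ha : x a = a) (hb : x b = b) (hc : x c = c) (hd : x d = d) : x = 1 :=
  eq_one_of_sq (F.odd h) ⟨hx, ha, hb, hc, hd⟩ hxx

/-- An odd power of `g` is an involution. -/
theorem exists_pow_invol (h : D4 a b c d) {g : Perm α} (hg : g ∈ G) (ha : g (g a) = a)
    (hb : g (g b) = b) (hc : g (g c) = c) (hd : g (g d) = d) :
    ∃ m : ℕ, Odd m ∧ g ^ m * g ^ m = 1 := by
  obtain ⟨k, m, hm, hkm⟩ : ∃ k m : ℕ, Odd m ∧ orderOf g = 2 ^ k * m := by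
    obtain ⟨k, m, hm, e⟩ := Nat.exists_eq_two_pow_mul_odd (orderOf_pos g).ne'
    exact ⟨k, m, hm, e⟩
  refine ⟨m, hm, ?_⟩
  have hmem : (g * g) ^ m ∈ fix4 G a b c d :=
    pow_mem (show g * g ∈ fix4 G a b c d from ⟨G.mul_mem hg hg, ha, hb, hc, hd⟩) m
  have e : g ^ m * g ^ m = (g * g) ^ m := by rw [← pow_add, ← pow_two, ← pow_mul, two_mul]
  rw [e, ← orderOf_eq_one_iff]
  have h1 : orderOf ((g * g) ^ m) ∣ 2 ^ k := by
    refine orderOf_dvd_of_pow_eq_one ?_
    rw [← e, ← pow_add, ← pow_mul, ← orderOf_dvd_iff_pow_eq_one, hkm]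
    exact ⟨2, by ring⟩
  have h2 : orderOf ((g * g) ^ m) ∣ Nat.card (fix4 G a b c d) := by
    rw [← orderOf_mk _ hmem]; exact _root_.orderOf_dvd_natCard _
  exact Nat.eq_one_of_dvd_coprimes ((Nat.coprime_two_left.2 (F.odd h)).pow_left k) h1 h2

/-- An involution agreeing with a permutation of order two on four points. -/
theorem exists_invol (h : D4 a b c d) {g : Perm α} (hg : g ∈ G) (ha : g (g a) = a)
    (hb : g (g b) = b) (hc : g (g c) = c) (hd : g (g d) = d) :
    ∃ t ∈ G, t * t = 1 ∧ t a = g a ∧ t b = g b ∧ t c = g c ∧ t d = g d := by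
  obtain ⟨m, hm, hmm⟩ := F.exists_pow_invol h hg ha hb hc hd
  exact ⟨g ^ m, G.pow_mem hg m, hmm, pow_odd_apply ha hm, pow_odd_apply hb hm, pow_odd_apply hc hm,
    pow_odd_apply hd hm⟩

/-- An involution commuting with `x` which agrees with the involution `g` on four points. -/
theorem exists_comm (h : D4 a b c d) {x g : Perm α} (hx : x ∈ G) (hxx : x * x = 1) (hg : g ∈ G)
    (hgg : g * g = 1) (ha : x (g (x (g a))) = a) (hb : x (g (x (g b))) = b)
    (hc : x (g (x (g c))) = c) (hd : x (g (x (g d))) = d) :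
    ∃ t ∈ G, t * t = 1 ∧ x * t = t * x ∧ t a = g a ∧ t b = g b ∧ t c = g c ∧ t d = g d := by
  obtain ⟨m, hm, hmm⟩ := F.exists_pow_invol h (G.mul_mem hx hg) ha hb hc hd
  set z := (x * g) ^ m with hz
  have hxz : x * z * x = z⁻¹ := by
    have hxi : x⁻¹ = x := (eq_inv_of_mul_eq_one_left hxx).symm
    have hgi : g⁻¹ = g := (eq_inv_of_mul_eq_one_left hgg).symm
    rw [hz, conj_pow' hxx, ← inv_pow]
    congr 1
    rw [mul_inv_rev, hxi, hgi, ← mul_assoc, hxx, one_mul]
  have hzi : z⁻¹ = z := (eq_inv_of_mul_eq_one_left hmm).symm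
  have hcomm : Commute x z := (commute_iff hxx z).2 (hxz.trans hzi)
  have happ : ∀ e : α, x (g (x (g e))) = e → (x * z) e = g e := fun e he => by
    rw [Perm.mul_apply, hz, pow_odd_apply (g := x * g) he hm, Perm.mul_apply, apply_apply_of_mul_self hxx]
  refine ⟨x * z, G.mul_mem hx (G.pow_mem (G.mul_mem hx hg) m), ?_, ?_, happ a ha, happ b hb, happ c hc, happ d hd⟩
  · calc x * z * (x * z) = (x * z * x) * z := by group
      _ = 1 := by rw [hxz, inv_mul_cancel]
  · calc x * (x * z) = x * (z * x) := by rw [hcomm.eq]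
      _ = x * z * x := by group

/-- Two involutions agreeing on four points are conjugate in their stabiliser. -/
theorem exists_conj (h : D4 a b c d) {x x' : Perm α} (hx : x ∈ G) (hxx : x * x = 1) (hx' : x' ∈ G)
    (hxx' : x' * x' = 1) (ha : x' (x a) = a) (hb : x' (x b) = b) (hc : x' (x c) = c) (hd : x' (x d) = d) :
    ∃ k ∈ fix4 G a b c d, k * x * k⁻¹ = x' ∧
      ∀ e : Perm α, Commute e x → Commute e x' → Commute e k := by
  have hz : x' * x ∈ fix4 G a b c d := ⟨G.mul_mem hx' hx, ha, hb, hc, hd⟩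
  refine ⟨sr (fix4 G a b c d) (x' * x), sr_mem hz, ?_,
    fun e he he' => (he'.mul_right he).pow_right _⟩
  have hs := sr_sq (F.odd h) hz
  set s := sr (fix4 G a b c d) (x' * x) with hsdef
  have hxs : x * s * x = s⁻¹ := by
    have hxi : x⁻¹ = x := (eq_inv_of_mul_eq_one_left hxx).symm
    have hxi' : x'⁻¹ = x' := (eq_inv_of_mul_eq_one_left hxx').symm
    rw [hsdef, sr, conj_pow' hxx, ← inv_pow]
    congr 1
    rw [mul_inv_rev, hxi, hxi', mul_assoc, mul_assoc, hxx, mul_one]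
  calc s * x * s⁻¹ = s * x * (x * s * x) := by rw [hxs]
    _ = s * (x * x) * s * x := by group
    _ = s * s * x := by rw [hxx, mul_one]
    _ = x' := by rw [hs, mul_assoc, hxx, mul_one]

/-- An involution with a given action. -/
theorem exists_single (h : D4 a b c d) :
    ∃ t ∈ G, t * t = 1 ∧ t a = b ∧ t b = a ∧ t c = c ∧ t d = d := by
  obtain ⟨g, hg, g1, g2, g3, g4⟩ := F.move h (a' := b) (b' := a) (c' := c) (d' := d)
    ⟨h.ab.symm, h.bc, h.bd, h.ac, h.ad, h.cd⟩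
  obtain ⟨t, ht, htt, t1, t2, t3, t4⟩ := F.exists_invol h hg (by rw [g1, g2]) (by rw [g2, g1])
    (by rw [g3, g3]) (by rw [g4, g4])
  exact ⟨t, ht, htt, t1.trans g1, t2.trans g2, t3.trans g3, t4.trans g4⟩

omit F in
theorem two_fixed_parity {x : Perm α} (hxx : x * x = 1) :
    (Finset.univ.filter fun e => x e = e).card ≡ Fintype.card α [MOD 2] := by
  haveI : Fact (Nat.Prime 2) := ⟨Nat.prime_two⟩
  have h := Perm.card_compl_support_modEq (p := 2) (n := 1) (σ := x) (by rw [pow_one, pow_two, hxx])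
  convert h using 2
  ext e
  simp

/-- An involution fixes at most three points. -/
theorem fixed_eq {x : Perm α} (hx : x ∈ G) (hxx : x * x = 1) (hx1 : x ≠ 1) (hab : a ≠ b) (hac : a ≠ c) (hbc : b ≠ c)
    (ha : x a = a) (hb : x b = b) (hc : x c = c) {e : α} (he : x e = e) : e = a ∨ e = b ∨ e = c := by
  by_contra hne
  push Not at hne
  exact hx1 (F.invol_eq_one ⟨hab, hac, hne.1.symm, hbc, hne.2.1.symm, hne.2.2.symm⟩ hx hxx ha hb hc he)

end FT

/-- A pair of commuting involutions: `x` swaps `p`, `q` and fixes `r`, `s`; `w` does the reverse. -/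
structure Cfg (G : Subgroup (Perm α)) (p q r s : α) (x w : Perm α) : Prop where
  d : D4 p q r s
  xG : x ∈ G
  wG : w ∈ G
  xx : x * x = 1
  ww : w * w = 1
  comm : x * w = w * x
  xp : x p = q
  xr : x r = r
  xs : x s = s
  wp : w p = p
  wq : w q = q
  wr : w r = s

namespace Cfg

variable {G : Subgroup (Perm α)} {p q r s : α} {x w : Perm α} (C : Cfg G p q r s x w)
include C

theorem xq : x q = p := by rw [← C.xp]; exact apply_apply_of_mul_self C.xx p

theorem ws : w s = r := by rw [← C.wr]; exact apply_apply_of_mul_self C.ww r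

theorem x_ne : x ≠ 1 := fun e => C.d.ab (by have := C.xp; rwa [e, Perm.one_apply] at this)

theorem w_ne : w ≠ 1 := fun e => C.d.cd (by have := C.wr; rwa [e, Perm.one_apply] at this)

theorem y_ne : x * w ≠ 1 := fun e => C.d.ab (by
  have h := congrArg (fun g : Perm α => g p) e
  simpa [C.wp, C.xp] using h.symm)

theorem symm' : Cfg G r s p q w x :=
  ⟨⟨C.d.cd, C.d.ac.symm, C.d.bc.symm, C.d.ad.symm, C.d.bd.symm, C.d.ab⟩, C.wG, C.xG, C.ww, C.xx,
    C.comm.symm, C.wr, C.wp, C.wq, C.xr, C.xs, C.xp⟩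

theorem klein (F : FT G) : Klein x w (fix4 G p q r s) := by
  refine ⟨C.xx, C.ww, C.comm, fun h hh => ?_, fun h hh => ?_, F.odd C.d⟩ <;> obtain ⟨hG, hp, hq, hr, hs⟩ := hh
  · refine ⟨G.mul_mem (G.mul_mem C.xG hG) C.xG, ?_, ?_, ?_, ?_⟩ <;> simp only [Perm.mul_apply]
    · rw [C.xp, hq, C.xq]
    · rw [C.xq, hp, C.xp]
    · rw [C.xr, hr, C.xr]
    · rw [C.xs, hs, C.xs]
  · refine ⟨G.mul_mem (G.mul_mem C.wG hG) C.wG, ?_, ?_, ?_, ?_⟩ <;> simp only [Perm.mul_apply]
    · rw [C.wp, hp, C.wp]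
    · rw [C.wq, hq, C.wq]
    · rw [C.wr, hs, C.ws]
    · rw [C.ws, hr, C.wr]

end Cfg

omit [Fintype α] [DecidableEq α] in
theorem comm_apply {x y : Perm α} (h : Commute x y) (a : α) : x (y a) = y (x a) :=
  congrArg (fun g : Perm α => g a) h.eq

theorem FT.exists_cfg {G : Subgroup (Perm α)} (F : FT G) {p q r s : α} (h : D4 p q r s) {x : Perm α}
    (hx : x ∈ G) (hxx : x * x = 1) (hp : x p = q) (hr : x r = r) (hs : x s = s) :
    ∃ w, Cfg G p q r s x w := by
  have hq : x q = p := by rw [← hp]; exact apply_apply_of_mul_self hxx p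
  obtain ⟨g, hg, hgg, g1, g2, g3, g4⟩ := F.exists_single (a := r) (b := s) (c := p) (d := q)
    ⟨h.cd, h.ac.symm, h.bc.symm, h.ad.symm, h.bd.symm, h.ab⟩
  obtain ⟨t, ht, htt, htc, t1, t2, t3, t4⟩ := F.exists_comm h hx hxx hg hgg
    (by rw [g3, hp, g4, hq]) (by rw [g4, hq, g3, hp]) (by rw [g1, hs, g2, hr]) (by rw [g2, hr, g1, hs])
  exact ⟨t, h, hx, ht, hxx, htt, htc, hp, hr, hs, t1.trans g3, t2.trans g4, t3.trans g1⟩

/-- For a two-cycle of `x` there is an involution commuting with `x` which fixes `p`, `q`. -/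
theorem FT.exists_pair_invol {G : Subgroup (Perm α)} (F : FT G) {p q a : α} (hpq : p ≠ q) {x : Perm α}
    (hx : x ∈ G) (hxx : x * x = 1) (hp : x p = q) (ha : x a ≠ a) (hap : a ≠ p) (haq : a ≠ q) :
    ∃ t ∈ G, t * t = 1 ∧ x * t = t * x ∧ t p = p ∧ t q = q ∧ t a = x a ∧ t (x a) = a := by
  have hq : x q = p := by rw [← hp]; exact apply_apply_of_mul_self hxx p
  have hxa : x (x a) = a := apply_apply_of_mul_self hxx a
  have h1 : x a ≠ p := fun e => haq (by rw [← hxa, e, hp])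
  have h2 : x a ≠ q := fun e => hap (by rw [← hxa, e, hq])
  obtain ⟨g, hg, hgg, g1, g2, g3, g4⟩ := F.exists_single (a := a) (b := x a) (c := p) (d := q)
    ⟨ha.symm, hap, haq, h1, h2, hpq⟩
  obtain ⟨t, ht, htt, htc, t1, t2, t3, t4⟩ := F.exists_comm (a := p) (b := q) (c := a) (d := x a)
    ⟨hpq, hap.symm, h1.symm, haq.symm, h2.symm, ha.symm⟩ hx hxx hg hgg
    (by rw [g3, hp, g4, hq]) (by rw [g4, hq, g3, hp]) (by rw [g1, hxa, g1, hxa]) (by rw [g2, g2])
  exact ⟨t, ht, htt, htc, t1.trans g3, t2.trans g4, t3.trans g1, t4.trans g2⟩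

end CfsgLib.FourTransOdd
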