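import Mathlib
import Cfsg.Agent.Lib.FourTransOdd.Basic

/-!
The case of even degree: the degree is at most `6`.
-/

open Subgroup Equiv

set_option autoImplicit false
set_option linter.unusedSectionVars false

namespace CfsgLib.FourTransOdd

variable {α : Type*} [Fintype α] [DecidableEq α]

omit [Fintype α] [DecidableEq α] in
/-- The orbit-stabiliser theorem for a subgroup. -/
theorem card_orbit_mul {β : Type*} [MulAction (Perm α) β] (K : Subgroup (Perm α)) (a : β) :
    {z | ∃ k ∈ K, k • a = z}.ncard * Nat.card ↥(K ⊓ MulAction.stabilizer (Perm α) a) = Nat.card K := by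
  have h1 := MulAction.index_stabilizer K a
  have e1 : MulAction.orbit K a = {z | ∃ k ∈ K, k • a = z} := by
    ext z; simp only [MulAction.mem_orbit_iff, Set.mem_ofPred_eq, Subtype.exists, Subgroup.mk_smul, exists_prop]
  have e2 : MulAction.stabilizer K a = (K ⊓ MulAction.stabilizer (Perm α) a).subgroupOf K := by
    ext k; simp [Subgroup.mem_subgroupOf, Subgroup.smul_def, k.2]
  rw [e1] at h1
  rw [← h1, e2, ← Nat.card_congr (subgroupOfEquivOfLe (inf_le_left : K ⊓ MulAction.stabilizer (Perm α) a ≤ K)).toEquiv, mul_comm, card_mul_index]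

omit [Fintype α] [DecidableEq α] in
theorem mem_inf_centralizer {K : Subgroup (Perm α)} {c g : Perm α} :
    g ∈ K ⊓ centralizer {c} ↔ g ∈ K ∧ Commute c g := by
  rw [mem_inf, mem_centralizer_singleton_iff]
  exact and_congr_right fun _ => ⟨fun h => h.symm, fun h => h.eq.symm⟩

/-- The points `a`, `b` lie in different orbits of the stabiliser of `p`, `q`, `r`, `s`. -/
def Opp (G : Subgroup (Perm α)) (p q r s a b : α) : Prop := ∀ g ∈ fix4 G p q r s, g a ≠ b

/-- A point outside four given ones. -/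
def Out (p q r s a : α) : Prop := a ≠ p ∧ a ≠ q ∧ a ≠ r ∧ a ≠ s

omit [Fintype α] [DecidableEq α] in
theorem opp_symm {G : Subgroup (Perm α)} {p q r s a b : α} (h : Opp G p q r s a b) : Opp G p q r s b a :=
  fun g hg e => h g⁻¹ ((fix4 G p q r s).inv_mem hg) (Perm.inv_eq_iff_eq.2 e.symm)

omit [Fintype α] [DecidableEq α] in
theorem out_apply {G : Subgroup (Perm α)} {p q r s a : α} {g : Perm α} (hg : g ∈ fix4 G p q r s)
    (ha : Out p q r s a) : Out p q r s (g a) :=
  ⟨fun e => ha.1 (g.injective (e.trans hg.2.1.symm)), fun e => ha.2.1 (g.injective (e.trans hg.2.2.1.symm)),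
    fun e => ha.2.2.1 (g.injective (e.trans hg.2.2.2.1.symm)), fun e => ha.2.2.2 (g.injective (e.trans hg.2.2.2.2.symm))⟩

namespace FT

variable {G : Subgroup (Perm α)} (F : FT G) (hev : Even (Fintype.card α))
include F hev

theorem even_two {x : Perm α} (hx : x ∈ G) (hxx : x * x = 1) (hx1 : x ≠ 1) {a b e : α} (hab : a ≠ b)
    (ha : x a = a) (hb : x b = b) (he : x e = e) : e = a ∨ e = b := by
  by_contra hne
  push Not at hne
  have hset : (Finset.univ.filter fun z => x z = z) = {a, b, e} := by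
    ext z
    simp only [Finset.mem_filter, Finset.mem_univ, true_and, Finset.mem_insert, Finset.mem_singleton]
    refine ⟨fun hz => F.fixed_eq hx hxx hx1 hab hne.1.symm hne.2.symm ha hb he hz, ?_⟩
    rintro (rfl | rfl | rfl) <;> assumption
  have h := two_fixed_parity (α := α) hxx
  rw [hset, show ({a, b, e} : Finset α).card = 3 by simp [hab, hne.1.symm, hne.2.symm], Nat.ModEq] at h
  rw [Nat.even_iff] at hev
  omega

/-- For any two-cycle of `x` there is a configuration in which it is also a cycle of `w`. -/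
theorem exists_cfg_pair {p q r s a : α} (h : D4 p q r s) {x : Perm α} (hx : x ∈ G) (hxx : x * x = 1)
    (hp : x p = q) (hr : x r = r) (hs : x s = s) (ha : Out p q r s a) :
    ∃ w, Cfg G p q r s x w ∧ w a = x a := by
  have hx1 : x ≠ 1 := fun e => h.ab (by rw [e, Perm.one_apply] at hp; exact hp)
  have hxa : x a ≠ a := fun e => (F.even_two hev hx hxx hx1 h.cd hr hs e).elim ha.2.2.1 ha.2.2.2
  obtain ⟨t, ht, htt, htc, tp, tq, ta, ta'⟩ := F.exists_pair_invol h.ab hx hxx hp hxa ha.1 ha.2.1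
  refine ⟨t, ⟨h, hx, ht, hxx, htt, htc, hp, hr, hs, tp, tq, ?_⟩, ta⟩
  have ht1 : t ≠ 1 := fun e => hxa (by rw [e, Perm.one_apply] at ta; exact ta.symm)
  have hfix : x (t r) = t r := by rw [comm_apply htc r, hr]
  rcases F.even_two hev hx hxx hx1 h.cd hr hs hfix with e | e
  · exact ((F.even_two hev ht htt ht1 h.ab tp tq e).elim h.ac.symm h.bc.symm).elim
  · exact e

/-- The orbits of the stabiliser of four points, with the completeness of the pairing. -/
theorem even_orbit {p q r s a : α} {x w : Perm α} (C : Cfg G p q r s x w) (ha : Out p q r s a)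
    (hw : w a = x a) :
    Opp G p q r s a (x a) ∧
      (∀ z, Out p q r s z → ∃ k ∈ fix4 G p q r s, k a = z ∨ k (x a) = z) ∧
      ∀ g ∈ fix4 G p q r s, ∀ g' ∈ fix4 G p q r s, ∃ k ∈ fix4 G p q r s, k a = g a ∧ k (x a) = g' (x a) := by
  set H := fix4 G p q r s with hH
  have hyy := (C.klein F).yy
  have hyG : x * w ∈ G := G.mul_mem C.xG C.wG
  have hxxa : x (x a) = a := apply_apply_of_mul_self C.xx a
  have hya : (x * w) a = a := by rw [Perm.mul_apply, hw, hxxa]
  have hwxa : w (x a) = a := by rw [← hw]; exact apply_apply_of_mul_self C.ww a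
  have hyb : (x * w) (x a) = x a := by rw [Perm.mul_apply, hwxa]
  have hxa : x a ≠ a := fun e =>
    (F.even_two hev C.xG C.xx C.x_ne C.d.cd C.xr C.xs e).elim ha.2.2.1 ha.2.2.2
  -- (1)
  have h1 : ∀ z, Out p q r s z → ∃ k ∈ H, Commute x k ∧ (k a = z ∨ k (x a) = z) := by
    intro z hz
    obtain ⟨w2, C2, hw2⟩ := F.exists_cfg_pair hev C.d C.xG C.xx C.xp C.xr C.xs hz
    obtain ⟨k, hk, hkw, hkc⟩ := F.exists_conj C.d C.wG C.ww C2.wG C2.ww
      (by rw [C.wp, C2.wp]) (by rw [C.wq, C2.wq]) (by rw [C.wr, C2.ws]) (by rw [C.ws, C2.wr])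
    have hxk : Commute x k := hkc x C.comm C2.comm
    refine ⟨k, hk, hxk, ?_⟩
    have hy' : (x * w) (k⁻¹ z) = k⁻¹ z := by
      rw [Perm.mul_apply]
      have e : w (k⁻¹ z) = k⁻¹ (w2 z) := by rw [← hkw]; simp [Perm.mul_apply]
      rw [e, hw2, ← comm_apply hxk.inv_right, comm_apply hxk.inv_right, comm_apply hxk.inv_right,
        apply_apply_of_mul_self C.xx]
    rcases F.even_two hev hyG hyy C.y_ne hxa.symm hya hyb hy' with e | e
    · left; rw [← e]; exact k.apply_symm_apply z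
    · right; rw [← e]; exact k.apply_symm_apply z
  -- (2)
  let OA : Set α := {z | ∃ k ∈ H, k • a = z}
  have hOA : OA.ncard * Nat.card ↥(H ⊓ MulAction.stabilizer (Perm α) a) = Nat.card H := card_orbit_mul H a
  have h2 : Opp G p q r s a (x a) := by
    intro g hg e
    have hall : OA = (({p, q, r, s} : Finset α)ᶜ : Finset α) := by
      ext z
      simp only [Finset.coe_compl, Set.mem_compl_iff, SetLike.mem_coe, Finset.mem_insert, Finset.mem_singleton]
      constructor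
      · rintro ⟨k, hk, rfl⟩
        have := out_apply hk ha
        simp only [Out] at this
        change ¬(k a = p ∨ k a = q ∨ k a = r ∨ k a = s)
        tauto
      · intro hz
        obtain ⟨k, hk, -, h' | h'⟩ := h1 z ⟨by tauto, by tauto, by tauto, by tauto⟩
        · exact ⟨k, hk, h'⟩
        · exact ⟨k * g, H.mul_mem hk hg, by show k (g a) = z; rw [e, h']⟩
    have hc : OA.ncard = Fintype.card α - 4 := by
      rw [hall, Set.ncard_coe_finset, Finset.card_compl,
        show ({p, q, r, s} : Finset α).card = 4 by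
          simp [C.d.ab, C.d.ac, C.d.ad, C.d.bc, C.d.bd, C.d.cd]]
    have hd : OA.ncard ∣ Nat.card H := ⟨_, hOA.symm⟩
    have ho := (F.odd C.d).of_dvd_nat hd
    rw [hc, Nat.odd_iff] at ho
    rw [Nat.even_iff] at hev
    omega
  refine ⟨h2, fun z hz => ?_, ?_⟩
  · obtain ⟨k, hk, -, h⟩ := h1 z hz
    exact ⟨k, hk, h⟩
  -- (3)
  have h3 : ∀ z ∈ OA, ∃ k ∈ H ⊓ centralizer {x}, k a = z := by
    rintro _ ⟨g, hg, rfl⟩
    obtain ⟨k, hk, hxk, h | h⟩ := h1 (g a) (out_apply hg ha)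
    · exact ⟨k, mem_inf_centralizer.2 ⟨hk, hxk⟩, h⟩
    · exact absurd (show (k⁻¹ * g) a = x a by rw [Perm.mul_apply, ← h]; exact k.symm_apply_apply _)
        (h2 _ (H.mul_mem (H.inv_mem hk) hg))
  have h3w : ∀ z ∈ OA, ∃ k ∈ H ⊓ centralizer {w}, k a = z := by
    rintro _ ⟨g, hg, rfl⟩
    obtain ⟨k, hk, hxk, h | h⟩ := (show ∀ z, Out p q r s z → ∃ k ∈ H, Commute w k ∧ (k a = z ∨ k (x a) = z) by
      intro z hz
      have C' := C.symm'
      have hz' : Out r s p q z := ⟨hz.2.2.1, hz.2.2.2, hz.1, hz.2.1⟩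
      obtain ⟨x2, C2, hx2⟩ := F.exists_cfg_pair hev C'.d C'.xG C'.xx C'.xp C'.xr C'.xs hz'
      obtain ⟨k, hk, hkw, hkc⟩ := F.exists_conj C'.d C'.wG C'.ww C2.wG C2.ww
        (by rw [C'.wp, C2.wp]) (by rw [C'.wq, C2.wq]) (by rw [C'.wr, C2.ws]) (by rw [C'.ws, C2.wr])
      have hwk : Commute w k := hkc w C'.comm C2.comm
      refine ⟨k, ⟨hk.1, hk.2.2.2.1, hk.2.2.2.2, hk.2.1, hk.2.2.1⟩, hwk, ?_⟩
      have hy' : (x * w) (k⁻¹ z) = k⁻¹ z := by
        rw [C.comm, Perm.mul_apply]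
        have e : x (k⁻¹ z) = k⁻¹ (x2 z) := by rw [← hkw]; simp [Perm.mul_apply]
        rw [e, hx2, comm_apply hwk.inv_right, apply_apply_of_mul_self C.ww]
      rcases F.even_two hev hyG hyy C.y_ne hxa.symm hya hyb hy' with e | e
      · left; rw [← e]; exact k.apply_symm_apply z
      · right; rw [← e]; exact k.apply_symm_apply z) (g a) (out_apply hg ha)
    · exact ⟨k, mem_inf_centralizer.2 ⟨hk, hxk⟩, h⟩
    · exact absurd (show (k⁻¹ * g) a = x a by rw [Perm.mul_apply, ← h]; exact k.symm_apply_apply _)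
        (h2 _ (H.mul_mem (H.inv_mem hk) hg))
  let L := H ⊓ MulAction.stabilizer (Perm α) a ⊓ MulAction.stabilizer (Perm α) (x a)
  have hLmem : ∀ {g : Perm α}, g ∈ L ↔ g ∈ H ∧ g a = a ∧ g (x a) = x a := fun {g} => and_assoc
  have kl := C.klein F
  have klL : Klein x w L := by
    refine ⟨C.xx, C.ww, C.comm, fun g hg => hLmem.2 ?_, fun g hg => hLmem.2 ?_,
      (F.odd C.d).of_dvd_nat (card_dvd_of_le (inf_le_left.trans inf_le_left))⟩ <;> obtain ⟨g1, g2, g3⟩ := hLmem.1 hg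
    · exact ⟨kl.xH g g1, by rw [Perm.mul_apply, Perm.mul_apply, g3, hxxa], by
        rw [Perm.mul_apply, Perm.mul_apply, hxxa, g2]⟩
    · exact ⟨kl.wH g g1, by rw [Perm.mul_apply, Perm.mul_apply, hw, g3, hwxa], by
        rw [Perm.mul_apply, Perm.mul_apply, hwxa, g2, hw]⟩
  have eM : L ⊓ centralizer {x * w} = H ⊓ centralizer {x * w} := by
    ext g
    rw [mem_inf_centralizer, mem_inf_centralizer]
    refine ⟨fun h => ⟨(hLmem.1 h.1).1, h.2⟩, fun ⟨hg, hc⟩ => ⟨hLmem.2 ⟨hg, ?_⟩, hc⟩⟩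
    have hga : g a = a := by
      have e : (x * w) (g a) = g a := by rw [comm_apply hc, hya]
      exact (F.even_two hev hyG hyy C.y_ne hxa.symm hya hyb e).resolve_right (h2 g hg)
    refine ⟨hga, ?_⟩
    have e : (x * w) (g (x a)) = g (x a) := by rw [comm_apply hc, hyb]
    exact (F.even_two hev hyG hyy C.y_ne hxa.symm hya hyb e).resolve_left (opp_symm h2 g hg)
  have eD : L ⊓ centralizer {x} ⊓ centralizer {w} = H ⊓ centralizer {x} ⊓ centralizer {w} := by
    refine le_antisymm (inf_le_inf_right _ (inf_le_inf_right _ (inf_le_left.trans inf_le_left))) fun g hg => ?_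
    obtain ⟨hg1, hgw⟩ := mem_inf_centralizer.1 hg
    obtain ⟨hgH, hgx⟩ := mem_inf_centralizer.1 hg1
    have hgy : g ∈ L ⊓ centralizer {x * w} := eM ▸ mem_inf_centralizer.2 ⟨hgH, hgx.mul_left hgw⟩
    exact mem_inf_centralizer.2 ⟨mem_inf_centralizer.2 ⟨hgy.1, hgx⟩, hgw⟩
  -- the two centralisers are transitive
  have hcount : ∀ (c : Perm α), Commute c c → c a = x a → c (x a) = a →
      (∀ z ∈ OA, ∃ k ∈ H ⊓ centralizer {c}, k a = z) →
      Nat.card ↥(H ⊓ centralizer {c}) = OA.ncard * Nat.card ↥(L ⊓ centralizer {c}) := by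
    intro c _ hc hc' htr
    have e1 : {z | ∃ k ∈ H ⊓ centralizer {c}, k • a = z} = OA := by
      ext z
      exact ⟨fun ⟨k, hk, e⟩ => ⟨k, hk.1, e⟩, fun hz => htr z hz⟩
    have e2 : H ⊓ centralizer {c} ⊓ MulAction.stabilizer (Perm α) a = L ⊓ centralizer {c} := by
      ext g
      constructor
      · rintro ⟨hg, hga⟩
        obtain ⟨hgH, hgc⟩ := mem_inf_centralizer.1 hg
        refine mem_inf_centralizer.2 ⟨hLmem.2 ⟨hgH, hga, ?_⟩, hgc⟩
        rw [← hc, ← comm_apply hgc, show g a = a from hga]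
      · intro hg
        obtain ⟨hgL, hgc⟩ := mem_inf_centralizer.1 hg
        exact ⟨mem_inf_centralizer.2 ⟨(hLmem.1 hgL).1, hgc⟩, (hLmem.1 hgL).2.1⟩
    rw [← card_orbit_mul (H ⊓ centralizer {c}) a, e1, e2]
  have eX := hcount x (Commute.refl x) rfl hxxa h3
  have eW := hcount w (Commute.refl w) hw hwxa h3w
  -- the orbit of the pair
  let E : Set (α × α) := {z | ∃ k ∈ H, k • (a, x a) = z}
  have hE : E.ncard * Nat.card L = Nat.card H := by
    have e : H ⊓ MulAction.stabilizer (Perm α) (a, x a) = L := by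
      ext g
      rw [hLmem]
      exact and_congr_right fun _ => ⟨fun h => ⟨congrArg Prod.fst h, congrArg Prod.snd h⟩,
        fun h => Prod.ext h.1 h.2⟩
    rw [← card_orbit_mul H (a, x a), e]
  have wH := kl.wielandt
  have wL := klL.wielandt
  rw [eM, eD] at wL
  rw [eX, eW, ← hE, mul_assoc, wL] at wH
  have hEP : E.ncard = OA.ncard * OA.ncard := by
    have hpos : 0 < Nat.card ↥(H ⊓ centralizer {x * w}) * Nat.card ↥(L ⊓ centralizer {w}) * Nat.card ↥(L ⊓ centralizer {x}) :=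
      Nat.mul_pos (Nat.mul_pos Nat.card_pos Nat.card_pos) Nat.card_pos
    refine Nat.eq_of_mul_eq_mul_right hpos ?_
    rw [wH]; ring
  let OB : Set α := {z | ∃ k ∈ H, k • x a = z}
  have hOB : OB.ncard = OA.ncard := by
    have hxim : OB = x '' OA := by
      ext z
      constructor
      · rintro ⟨k, hk, rfl⟩
        exact ⟨(x * k * x) a, ⟨_, kl.xH k hk, rfl⟩, apply_apply_of_mul_self C.xx _⟩
      · rintro ⟨_, ⟨k, hk, rfl⟩, rfl⟩
        exact ⟨x * k * x, kl.xH k hk, by show x (k (x (x a))) = x (k a); rw [hxxa]⟩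
    rw [hxim, Set.ncard_image_of_injective _ x.injective]
  have hEeq : E = OA ×ˢ OB := by
    refine Set.eq_of_subset_of_ncard_le ?_ ?_ (Set.toFinite _)
    · rintro _ ⟨k, hk, rfl⟩
      exact ⟨⟨k, hk, rfl⟩, ⟨k, hk, rfl⟩⟩
    · rw [Set.ncard_prod, hOB, hEP]
  intro g hg g' hg'
  obtain ⟨k, hk, e⟩ := (hEeq ▸ (⟨⟨g, hg, rfl⟩, ⟨g', hg', rfl⟩⟩ : (g a, g' (x a)) ∈ OA ×ˢ OB) : (g a, g' (x a)) ∈ E)
  exact ⟨k, hk, congrArg Prod.fst e, congrArg Prod.snd e⟩

/-- Some configuration based at a given point. -/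
theorem exists_base {p q r s a : α} (h : D4 p q r s) (ha : Out p q r s a) :
    ∃ x w, Cfg G p q r s x w ∧ w a = x a := by
  obtain ⟨x, hx, hxx, hp, -, hr, hs⟩ := F.exists_single h
  obtain ⟨w, hw⟩ := F.exists_cfg_pair hev h hx hxx hp hr hs ha
  exact ⟨x, w, hw⟩

theorem opp_two {p q r s a b c : α} (h : D4 p q r s) (ha : Out p q r s a) (hb : Out p q r s b)
    (hc : Out p q r s c) (hab : Opp G p q r s a b) :
    (Opp G p q r s a c ↔ ¬ Opp G p q r s b c) := by
  obtain ⟨x, w, C, hw⟩ := F.exists_base hev h ha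
  obtain ⟨h1, h2, -⟩ := F.even_orbit hev C ha hw
  set H := fix4 G p q r s with hH
  have hB : ∀ z, Out p q r s z → Opp G p q r s a z → ∃ k ∈ H, k (x a) = z := fun z hz ho => by
    obtain ⟨k, hk, e | e⟩ := h2 z hz
    · exact absurd e (ho k hk)
    · exact ⟨k, hk, e⟩
  constructor
  · intro hac hbc
    obtain ⟨k, hk, ek⟩ := hB b hb hab
    obtain ⟨l, hl, el⟩ := hB c hc hac
    exact hbc (l * k⁻¹) (H.mul_mem hl (H.inv_mem hk)) (by
      rw [Perm.mul_apply, ← el, ← ek]
      exact congrArg l (k.symm_apply_apply _))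
  · intro hbc g hg e
    refine hbc fun g' hg' e' => hab (g'⁻¹ * g) (H.mul_mem (H.inv_mem hg') hg) ?_
    rw [Perm.mul_apply, e, ← e']
    exact g'.symm_apply_apply _

theorem opp_iff_invol {p q r s a b : α} (h : D4 p q r s) (ha : Out p q r s a) (hb : Out p q r s b) :
    Opp G p q r s a b ↔
      ∃ t ∈ G, t * t = 1 ∧ t p = q ∧ t r = r ∧ t s = s ∧ t a = b := by
  constructor
  · intro hab
    obtain ⟨x, w, C, hw⟩ := F.exists_base hev h ha
    obtain ⟨-, h2, h3⟩ := F.even_orbit hev C ha hw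
    obtain ⟨g', hg', e | e⟩ := h2 b hb
    · exact absurd e (hab g' hg')
    obtain ⟨k, hk, k1, k2⟩ := h3 1 (one_mem _) g' hg'
    obtain ⟨hkG, kp, kq, kr, ks⟩ := hk
    have inv' : ∀ z, k z = z → k⁻¹ z = z := fun z hz => Perm.inv_eq_iff_eq.2 hz.symm
    refine ⟨k * x * k⁻¹, G.mul_mem (G.mul_mem hkG C.xG) (G.inv_mem hkG), ?_, ?_, ?_, ?_, ?_⟩
    · rw [show k * x * k⁻¹ * (k * x * k⁻¹) = k * (x * x) * k⁻¹ by group, C.xx, mul_one, mul_inv_cancel]
    · rw [Perm.mul_apply, Perm.mul_apply, inv' p kp, C.xp, kq]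
    · rw [Perm.mul_apply, Perm.mul_apply, inv' r kr, C.xr, kr]
    · rw [Perm.mul_apply, Perm.mul_apply, inv' s ks, C.xs, ks]
    · rw [Perm.mul_apply, Perm.mul_apply, inv' a k1, k2, e]
  · rintro ⟨t, ht, htt, tp, tr, ts, ta⟩
    obtain ⟨w, C, hw⟩ := F.exists_cfg_pair hev h ht htt tp tr ts ha
    exact ta ▸ (F.even_orbit hev C ha hw).1

theorem opp_step {p q r s a b : α} (h : D4 p q r s) (ha : Out p q r s a) (hb : Out p q r s b)
    (hab : a ≠ b) (ho : Opp G p q r s a b) : Opp G a b r s p q := by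
  obtain ⟨t, ht, htt, tp, tr, ts, ta⟩ := (F.opp_iff_invol hev h ha hb).1 ho
  exact (F.opp_iff_invol hev ⟨hab, ha.2.2.1, ha.2.2.2, hb.2.2.1, hb.2.2.2, h.cd⟩
    ⟨ha.1.symm, hb.1.symm, h.ac, h.ad⟩ ⟨ha.2.1.symm, hb.2.1.symm, h.bc, h.bd⟩).2
    ⟨t, ht, htt, ta, tr, ts, tp⟩

/-- A quadruply transitive group of even degree with odd stabilisers has degree at most `6`. -/
theorem even_le_six : Fintype.card α ≤ 6 := by
  by_contra hn
  have h8 : 8 ≤ Fintype.card α := by rw [Nat.even_iff] at hev; omega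
  obtain ⟨e⟩ : Nonempty (Fin 5 ↪ α) := Function.Embedding.nonempty_of_card_le (by simpa using (by omega : 5 ≤ Fintype.card α))
  have ne : ∀ {i j : Fin 5}, i ≠ j → e i ≠ e j := fun h h' => h (e.injective h')
  generalize hp : e 0 = p, hq : e 1 = q, hr : e 2 = r, hs : e 3 = s, ha0 : e 4 = a
  have hd : D4 p q r s := by subst hp hq hr hs; exact ⟨ne (by decide), ne (by decide), ne (by decide), ne (by decide), ne (by decide), ne (by decide)⟩
  have ha : Out p q r s a := by subst hp hq hr hs ha0; exact ⟨ne (by decide), ne (by decide), ne (by decide), ne (by decide)⟩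
  obtain ⟨x, w, C, hw⟩ := F.exists_base hev hd ha
  have h1 := (F.even_orbit hev C ha hw).1
  obtain ⟨b, hbdef⟩ : ∃ b, b = x a := ⟨_, rfl⟩
  rw [← hbdef] at h1
  have hb : Out p q r s b := by
    subst hbdef
    exact ⟨fun e => ha.2.1 (x.injective (e.trans C.xq.symm)), fun e => ha.1 (x.injective (e.trans C.xp.symm)),
      fun e => ha.2.2.1 (x.injective (e.trans C.xr.symm)), fun e => ha.2.2.2 (x.injective (e.trans C.xs.symm))⟩
  obtain ⟨c, hc⟩ : ∃ c, c ∉ ({p, q, r, s, a, b} : Finset α) := by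
    by_contra hall
    push Not at hall
    have := (Finset.card_le_card (s := Finset.univ) fun z _ => hall z).trans Finset.card_le_six
    rw [Finset.card_univ] at this
    omega
  simp only [Finset.mem_insert, Finset.mem_singleton, not_or] at hc
  obtain ⟨cp, cq, cr, cs, ca, cb⟩ := hc
  have hcO : Out p q r s c := ⟨cp, cq, cr, cs⟩
  have hab : a ≠ b := fun e => h1 1 (one_mem _) (by rw [Perm.one_apply, e])
  -- without loss of generality `c` is opposite to `b`
  suffices key : ∀ a b, a ≠ b → a ≠ c → b ≠ c → Out p q r s a → Out p q r s b → Opp G p q r s a b →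
      Opp G p q r s c b → False by
    by_cases h2 : Opp G p q r s b c
    · exact key a b hab (Ne.symm ca) (Ne.symm cb) ha hb h1 (opp_symm h2)
    · exact key b a hab.symm (Ne.symm cb) (Ne.symm ca) hb ha (opp_symm h1)
        (opp_symm ((F.opp_two hev hd ha hb hcO h1).2 h2))
  intro a b hab hac hbc ha hb h1 h2
  have h3 : ¬ Opp G p q r s a c := fun h => (F.opp_two hev hd ha hb hcO h1).1 h (opp_symm h2)
  obtain ⟨a1, a2, a3, a4⟩ := ha
  obtain ⟨b1, b2, b3, b4⟩ := hb
  obtain ⟨n12, n13, n14, n23, n24, n34⟩ := hd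
  -- permutations of the four points
  have perm1 : ∀ {p q r s u v : α}, Opp G p q r s u v → Opp G r s p q u v := fun h g hg =>
    h g ⟨hg.1, hg.2.2.2.1, hg.2.2.2.2, hg.2.1, hg.2.2.1⟩
  have perm2 : ∀ {p q r s u v : α}, Opp G p q r s u v → Opp G q p r s u v := fun h g hg =>
    h g ⟨hg.1, hg.2.2.1, hg.2.1, hg.2.2.2.1, hg.2.2.2.2⟩
  have perm3 : ∀ {p q r s u v : α}, Opp G p q r s u v → Opp G s q r p u v := fun h g hg =>
    h g ⟨hg.1, hg.2.2.2.2, hg.2.2.1, hg.2.2.2.1, hg.2.1⟩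
  have perm4 : ∀ {p q r s u v : α}, Opp G p q r s u v → Opp G p r q s u v := fun h g hg =>
    h g ⟨hg.1, hg.2.1, hg.2.2.2.1, hg.2.2.1, hg.2.2.2.2⟩
  have hc' : Opp G p q a b r s := by
    refine perm1 (F.opp_step hev (p := r) (q := s) (r := p) (s := q) (a := a) (b := b)
      ⟨n34, n13.symm, n23.symm, n14.symm, n24.symm, n12⟩ ⟨a3, a4, a1, a2⟩ ⟨b3, b4, b1, b2⟩ hab (perm1 h1))
  have hb' : ¬ Opp G p q a c r s := fun h => h3 (perm1 (F.opp_step hev (p := a) (q := c) (r := p) (s := q)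
      (a := r) (b := s) ⟨hac, a1, a2, cp, cq, n12⟩ ⟨a3.symm, Ne.symm cr, n13.symm, n23.symm⟩
      ⟨a4.symm, Ne.symm cs, n14.symm, n24.symm⟩ n34 (perm1 h)))
  -- two steps
  have two : ∀ {t b c : α}, t ≠ p → t ≠ q → t ≠ a → t ≠ b → t ≠ c → a ≠ b → a ≠ c → b ≠ c →
      b ≠ p → b ≠ q → c ≠ p → c ≠ q → Opp G p q a b t c → Opp G p q a c t b := by
    intro t b c tp tq ta tb tc hab hac hbc bp bq cp cq h
    -- first `Opp a p q b t c`
    have e1 : Opp G t c q b a p := by
      refine F.opp_step hev (p := a) (q := p) (r := q) (s := b)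
        ⟨a1, a2, hab, n12, bp.symm, bq.symm⟩ ⟨ta, tp, tq, tb⟩ ⟨hac.symm, cp, cq, Ne.symm hbc⟩ tc ?_
      exact fun g hg => h g ⟨hg.1, hg.2.2.1, hg.2.2.2.1, hg.2.1, hg.2.2.2.2⟩
    have e2 : Opp G a p c q t b := by
      refine F.opp_step hev (p := t) (q := b) (r := c) (s := q)
        ⟨tb, tc, tq, hbc, bq, cq⟩ ⟨ta.symm, hab, hac, a2⟩ ⟨tp.symm, bp.symm, cp.symm, n12⟩ a1 ?_
      exact fun g hg => e1 g ⟨hg.1, hg.2.1, hg.2.2.2.1, hg.2.2.2.2, hg.2.2.1⟩
    exact fun g hg => e2 g ⟨hg.1, hg.2.2.2.1, hg.2.1, hg.2.2.2.2, hg.2.2.1⟩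
  have hQc : D4 p q a b := ⟨n12, a1.symm, b1.symm, a2.symm, b2.symm, hab⟩
  have hQb : D4 p q a c := ⟨n12, a1.symm, Ne.symm cp, a2.symm, Ne.symm cq, hac⟩
  have x1 : Opp G p q a b r c ↔ ¬ Opp G p q a b s c :=
    F.opp_two hev hQc ⟨n13.symm, n23.symm, a3.symm, b3.symm⟩ ⟨n14.symm, n24.symm, a4.symm, b4.symm⟩
      ⟨cp, cq, hac.symm, hbc.symm⟩ hc'
  have x2 : Opp G p q a c r b ↔ Opp G p q a c s b := by
    have hr' : Out p q a c r := ⟨n13.symm, n23.symm, a3.symm, Ne.symm cr⟩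
    have hs' : Out p q a c s := ⟨n14.symm, n24.symm, a4.symm, Ne.symm cs⟩
    have hb'' : Out p q a c b := ⟨b1, b2, hab.symm, hbc⟩
    constructor
    · intro h
      by_contra hsb
      exact hb' ((F.opp_two hev hQb hr' hb'' hs' h).2 fun h' => hsb (opp_symm h'))
    · intro h
      by_contra hrb
      exact hb' (opp_symm ((F.opp_two hev hQb hs' hb'' hr' h).2 fun h' => hrb (opp_symm h')))
  have t1 : Opp G p q a b r c ↔ Opp G p q a c r b :=
    ⟨two n13.symm n23.symm a3.symm b3.symm (Ne.symm cr) hab hac hbc b1 b2 cp cq,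
      two n13.symm n23.symm a3.symm (Ne.symm cr) b3.symm hac hab hbc.symm cp cq b1 b2⟩
  have t2 : Opp G p q a b s c ↔ Opp G p q a c s b :=
    ⟨two n14.symm n24.symm a4.symm b4.symm (Ne.symm cs) hab hac hbc b1 b2 cp cq,
      two n14.symm n24.symm a4.symm (Ne.symm cs) b4.symm hac hab hbc.symm cp cq b1 b2⟩
  rw [t1, t2, x2] at x1
  exact iff_not_self x1

end FT

end CfsgLib.FourTransOdd
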