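import Mathlib
import Cfsg.Agent.Lib.FourTransOdd.Basic

/-!
The case of odd degree: the degree is `5`, `7` or `11`, and in the last case the action is sharp.
-/

open Subgroup Equiv

set_option autoImplicit false
set_option linter.unusedSectionVars false

namespace CfsgLib.FourTransOdd

variable {α : Type*} [Fintype α] [DecidableEq α]

/-- An element of odd order cannot interchange two points. -/
theorem apply_eq_of_apply_apply {H : Subgroup (Perm α)} (hodd : Odd (Nat.card H)) {k : Perm α}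
    (hk : k ∈ H) {a : α} (h : k (k a) = a) : k a = a := by
  rw [← pow_odd_apply h hodd, pow_card_mem hk, Perm.one_apply]

/-- All involutions with a given action on four points have the same third fixed point. -/
def Good (G : Subgroup (Perm α)) : Prop :=
  ∀ p q r s f : α, ∀ x x' : Perm α, D4 p q r s → x ∈ G → x * x = 1 → x' ∈ G → x' * x' = 1 →
    x p = q → x r = r → x s = s → x' p = q → x' r = r → x' s = s → f ≠ r → f ≠ s → x f = f → x' f = f

namespace FT

variable {G : Subgroup (Perm α)} (F : FT G) (hodd : Odd (Fintype.card α))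
include F hodd

theorem odd_third {x : Perm α} (hxx : x * x = 1) {a b : α} (hab : a ≠ b)
    (ha : x a = a) (hb : x b = b) : ∃ f, f ≠ a ∧ f ≠ b ∧ x f = f := by
  by_contra hne
  have hset : (Finset.univ.filter fun z => x z = z) = {a, b} := by
    ext z
    simp only [Finset.mem_filter, Finset.mem_univ, true_and, Finset.mem_insert, Finset.mem_singleton]
    refine ⟨fun hz => ?_, ?_⟩
    · by_contra h
      push Not at h
      exact hne ⟨z, h.1, h.2, hz⟩
    · rintro (rfl | rfl) <;> assumption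
  have h := two_fixed_parity (α := α) hxx
  rw [hset, Finset.card_pair hab, Nat.ModEq] at h
  rw [Nat.odd_iff] at hodd
  omega

theorem cfg_third {p q r s : α} {x w : Perm α} (C : Cfg G p q r s x w) :
    ∃ f, f ≠ r ∧ f ≠ s ∧ f ≠ p ∧ f ≠ q ∧ x f = f ∧ w f = f := by
  obtain ⟨f, fr, fs, hf⟩ := F.odd_third hodd C.xx C.d.cd C.xr C.xs
  refine ⟨f, fr, fs, fun e => ?_, fun e => ?_, hf, ?_⟩
  · rw [e, C.xp] at hf; exact C.d.ab hf.symm
  · rw [e, C.xq] at hf; exact C.d.ab hf
  have hwf : x (w f) = w f := by rw [comm_apply C.comm, hf]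
  rcases F.fixed_eq C.xG C.xx C.x_ne C.d.cd fr.symm fs.symm C.xr C.xs hf hwf with e | e | e
  · exact absurd (w.injective (e.trans C.ws.symm)) fs
  · exact absurd (w.injective (e.trans C.wr.symm)) fr
  · exact e

theorem commute_third {p q r s f : α} {x : Perm α} (hd : D4 p q r s) (hx : x ∈ G) (hxx : x * x = 1)
    (hx1 : x ≠ 1) (hr : x r = r) (hs : x s = s) (fr : f ≠ r) (fs : f ≠ s) (hf : x f = f)
    {k : Perm α} (hk : k ∈ fix4 G p q r s) (hc : Commute x k) : k f = f := by
  have e : x (k f) = k f := by rw [comm_apply hc, hf]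
  rcases F.fixed_eq hx hxx hx1 hd.cd fr.symm fs.symm hr hs hf e with h | h | h
  · exact absurd (k.injective (h.trans hk.2.2.2.1.symm)) fr
  · exact absurd (k.injective (h.trans hk.2.2.2.2.symm)) fs
  · exact h

/-- If all such involutions have the same third fixed point, they are determined by their fixed
points. -/
theorem unique_of_good (hgood : Good G) {x x' : Perm α} (hx : x ∈ G) (hxx : x * x = 1) (hx1 : x ≠ 1)
    (hx' : x' ∈ G) (hxx' : x' * x' = 1) (hx1' : x' ≠ 1) {c d e : α} (hcd : c ≠ d) (hce : c ≠ e)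
    (hde : d ≠ e) (hc : x c = c) (hd : x d = d) (he : x e = e) (hc' : x' c = c) (hd' : x' d = d)
    (he' : x' e = e) : x = x' := by
  refine Equiv.ext fun a => ?_
  by_cases ha : x a = a
  · rcases F.fixed_eq hx hxx hx1 hcd hce hde hc hd he ha with rfl | rfl | rfl <;> rw [ha] <;> symm <;> assumption
  have ha' : x' a ≠ a := fun h => by
    rcases F.fixed_eq hx' hxx' hx1' hcd hce hde hc' hd' he' h with rfl | rfl | rfl
    exacts [ha hc, ha hd, ha he]
  -- an involution fixing `a`, `x a`, `e` which swaps `c`, `d`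
  have aux : ∀ z : Perm α, z ∈ G → z * z = 1 → z a ≠ a → z c = c → z d = d → z e = e →
      D4 c d a e ∧ z a ≠ e ∧ ∃ w ∈ G, w * w = 1 ∧ w ≠ 1 ∧ w c = d ∧ w a = a ∧ w e = e ∧ w (z a) = z a := by
    intro z hz hzz hza zc zd ze
    have hzza : z (z a) = a := apply_apply_of_mul_self hzz a
    have n1 : a ≠ c := fun h => hza (by rw [h, zc])
    have n2 : a ≠ d := fun h => hza (by rw [h, zd])
    have n3 : a ≠ e := fun h => hza (by rw [h, ze])
    have m1 : z a ≠ c := fun h => n1 (by rw [← hzza, h, zc])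
    have m2 : z a ≠ d := fun h => n2 (by rw [← hzza, h, zd])
    have m3 : z a ≠ e := fun h => n3 (by rw [← hzza, h, ze])
    obtain ⟨w, C⟩ := F.exists_cfg (p := a) (q := z a) (r := c) (s := d)
      ⟨hza.symm, n1, n2, m1, m2, hcd⟩ hz hzz rfl zc zd
    have hwe : w e = e := by
      have h1 : z (w e) = w e := by rw [comm_apply C.comm, ze]
      rcases F.fixed_eq hz hzz C.x_ne hcd hce hde zc zd ze h1 with h | h | h
      · exact absurd (w.injective (h.trans C.ws.symm)) hde.symm
      · exact absurd (w.injective (h.trans C.wr.symm)) hce.symm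
      · exact h
    exact ⟨⟨hcd, n1.symm, hce, n2.symm, hde, n3⟩, m3, w, C.wG, C.ww, C.w_ne, C.wr, C.wp, hwe, C.wq⟩
  obtain ⟨hD, m3, w, hw, hww, hw1, wc, wa, we, wb⟩ := aux x hx hxx ha hc hd he
  obtain ⟨-, m3', w', hw', hww', hw1', wc', wa', we', wb'⟩ := aux x' hx' hxx' ha' hc' hd' he'
  have h := hgood c d a e (x a) w w' hD hw hww hw' hww' wc wa we wc' wa' we' ha m3 wb
  rcases F.fixed_eq hw' hww' hw1' ha'.symm hD.cd m3' wa' wb' we' h with k | k | k
  exacts [absurd k ha, k, absurd k m3]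

/-- The centraliser of `x` in the stabiliser fixes the two-cycles shared by `x` and `w`. -/
theorem pair_fixed {p q r s a : α} {x w : Perm α} (C : Cfg G p q r s x w) (hxa : x a ≠ a)
    (hwa : w a = x a) {k : Perm α} (hk : k ∈ fix4 G p q r s) (hkx : Commute x k) : k a = a := by
  set H := fix4 G p q r s with hH
  obtain ⟨f, fr, fs, fp, fq, hxf, hwf⟩ := F.cfg_third hodd C
  have kl := C.klein F
  have hyy := kl.yy
  have hyG : x * w ∈ G := G.mul_mem C.xG C.wG
  have hxxa : x (x a) = a := apply_apply_of_mul_self C.xx a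
  have hya : (x * w) a = a := by rw [Perm.mul_apply, hwa, hxxa]
  have hwxa : w (x a) = a := by rw [← hwa]; exact apply_apply_of_mul_self C.ww a
  have hyb : (x * w) (x a) = x a := by rw [Perm.mul_apply, hwxa]
  have hyf : (x * w) f = f := by rw [Perm.mul_apply, hwf, hxf]
  have hfa : f ≠ a := fun e => hxa (by rw [← e, hxf])
  have hfb : f ≠ x a := fun e => hxa (by
    have := congrArg x e
    rw [hxf, hxxa] at this
    rw [← e, this])
  have hyfix : ∀ {z}, (x * w) z = z → z = a ∨ z = x a ∨ z = f := fun hz =>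
    F.fixed_eq hyG hyy C.y_ne hxa.symm hfa.symm hfb.symm hya hyb hyf hz
  have hkf : ∀ g ∈ H, Commute x g → g f = f := fun g hg hc =>
    F.commute_third hodd C.d C.xG C.xx C.x_ne C.xr C.xs fr fs hxf hg hc
  -- elements centralising `x` cannot move `a` to `x a`
  have hnot : ∀ g ∈ H, Commute x g → g a ∈ ({a, x a, f} : Set α) → g a = a := by
    intro g hg hc hmem
    rcases hmem with h | h | h
    · exact h
    · exact apply_eq_of_apply_apply (F.odd C.d) hg (by rw [h, ← comm_apply hc, h, hxxa])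
    · exact absurd (g.injective (h.trans (hkf g hg hc).symm)) hfa.symm
  -- the orbit of `f`
  have horb : ∀ h ∈ H, h f ∈ ({a, x a, f} : Set α) := by
    intro h hh
    obtain ⟨u, ⟨hu, huy, -⟩, v, ⟨hv, hvw, -⟩, k', ⟨hk', hkx'⟩, rfl⟩ := kl.decomp hh
    have hv' : v ∈ fix4 G r s p q := ⟨hv.1, hv.2.2.2.1, hv.2.2.2.2, hv.2.1, hv.2.2.1⟩
    have C' := C.symm'
    rw [Perm.mul_apply, Perm.mul_apply, hkf k' hk' hkx',
      F.commute_third hodd C'.d C.wG C.ww C.w_ne C.wp C.wq fp fq hwf hv' hvw]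
    exact hyfix (by rw [comm_apply huy, hyf])
  by_cases hfix : ∀ h ∈ H, h f = f
  · -- every such involution fixes the same third point
    have hgood : Good G := by
      intro p' q' r' s' f' z z' hd' hz hzz hz' hzz' zp zr zs zp' zr' zs' fr' fs' hzf
      have zq : z q' = p' := by rw [← zp]; exact apply_apply_of_mul_self hzz p'
      have zq' : z' q' = p' := by rw [← zp']; exact apply_apply_of_mul_self hzz' p'
      obtain ⟨g, hg, g1, g2, g3, g4⟩ := F.move C.d hd'
      have conj : ∀ t : Perm α, t ∈ G → t * t = 1 → t p' = q' → t q' = p' → t r' = r' → t s' = s' →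
          ∃ h, h ∈ fix4 G p' q' r' s' ∧ t (h (g f)) = h (g f) := by
        intro t ht htt tp tq tr ts
        have ap : ∀ {i j i' j'}, g i = i' → g j = j' → x i = j → (g * x * g⁻¹) i' = j' := by
          intro i j i' j' hi hj hij
          rw [Perm.mul_apply, Perm.mul_apply, ← hi, show g⁻¹ (g i) = i from g.symm_apply_apply i, hij, hj]
        obtain ⟨h, hh, e, -⟩ := F.exists_conj hd' (G.mul_mem (G.mul_mem hg C.xG) (G.inv_mem hg))
          (by rw [show g * x * g⁻¹ * (g * x * g⁻¹) = g * (x * x) * g⁻¹ by group, C.xx, mul_one, mul_inv_cancel])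
          ht htt (by rw [ap g1 g2 C.xp, tq]) (by rw [ap g2 g1 C.xq, tp]) (by rw [ap g3 g3 C.xr, tr])
          (by rw [ap g4 g4 C.xs, ts])
        refine ⟨h, hh, ?_⟩
        rw [← e]
        simp only [Perm.mul_apply, Perm.inv_eq_iff_eq.2 (rfl : h (g f) = h (g f))]
        rw [show g⁻¹ (g f) = f from g.symm_apply_apply f, hxf]
      obtain ⟨h, hh, e⟩ := conj z hz hzz zp zq zr zs
      obtain ⟨h', hh', e'⟩ := conj z' hz' hzz' zp' zq' zr' zs'
      have hz1 : z ≠ 1 := fun e => hd'.ab (by rw [e, Perm.one_apply] at zp; exact zp)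
      have n3 : h (g f) ≠ r' := fun k => fr (g.injective ((h.injective (k.trans hh.2.2.2.1.symm)).trans g3.symm))
      have n4 : h (g f) ≠ s' := fun k => fs (g.injective ((h.injective (k.trans hh.2.2.2.2.symm)).trans g4.symm))
      have hf' : f' = h (g f) := by
        rcases F.fixed_eq hz hzz hz1 hd'.cd n3.symm n4.symm zr zs e hzf with k | k | k
        exacts [absurd k fr', absurd k fs', k]
      have hmem : g⁻¹ * (h⁻¹ * h') * g ∈ H := by
        have hm : h⁻¹ * h' ∈ fix4 G p' q' r' s' := mul_mem (inv_mem hh) hh'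
        obtain ⟨mG, m1, m2, m3, m4⟩ := hm
        refine ⟨G.mul_mem (G.mul_mem (G.inv_mem hg) mG) hg, ?_, ?_, ?_, ?_⟩ <;>
          simp only [Perm.mul_apply] at m1 m2 m3 m4 ⊢
        · rw [g1, m1, ← g1]; exact g.symm_apply_apply p
        · rw [g2, m2, ← g2]; exact g.symm_apply_apply q
        · rw [g3, m3, ← g3]; exact g.symm_apply_apply r
        · rw [g4, m4, ← g4]; exact g.symm_apply_apply s
      have heq : h' (g f) = h (g f) := by
        have := hfix _ hmem
        simp only [Perm.mul_apply] at this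
        exact Perm.inv_eq_iff_eq.1 (Perm.inv_eq_iff_eq.1 this)
      rw [hf', ← heq]
      exact e'
    -- hence `x`, `w` are central
    obtain ⟨hkG, kp, kq, kr, ks⟩ := hk
    have hk : k ∈ H := ⟨hkG, kp, kq, kr, ks⟩
    have inv' : ∀ z, k z = z → k⁻¹ z = z := fun z hz => Perm.inv_eq_iff_eq.2 hz.symm
    have hkw : Commute w k := by
      have e : w = k * w * k⁻¹ := by
        refine F.unique_of_good hodd hgood C.wG C.ww C.w_ne (G.mul_mem (G.mul_mem hkG C.wG) (G.inv_mem hkG))
          (by rw [show k * w * k⁻¹ * (k * w * k⁻¹) = k * (w * w) * k⁻¹ by group, C.ww, mul_one, mul_inv_cancel])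
          (fun e => C.w_ne (conj_eq_one_iff.1 e)) C.d.ab fp.symm fq.symm C.wp C.wq hwf ?_ ?_ ?_
        · rw [Perm.mul_apply, Perm.mul_apply, inv' p kp, C.wp, kp]
        · rw [Perm.mul_apply, Perm.mul_apply, inv' q kq, C.wq, kq]
        · rw [Perm.mul_apply, Perm.mul_apply, inv' f (hfix k hk), hwf, hfix k hk]
      show w * k = k * w
      conv_lhs => rw [e]
      group
    have hky : Commute (x * w) k := hkx.mul_left hkw
    exact hnot k hk hkx (hyfix (by rw [comm_apply hky, hya]))
  · -- the orbit of `f` is `{a, x a, f}`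
    push Not at hfix
    obtain ⟨g, hg, hgf⟩ := hfix
    refine hnot k hk hkx ?_
    have hga : ∃ g' ∈ H, g' f = a := by
      rcases horb g hg with h | h | h
      · exact ⟨g, hg, h⟩
      · exact ⟨x * g * x, kl.xH g hg, by rw [Perm.mul_apply, Perm.mul_apply, hxf, h, hxxa]⟩
      · exact absurd h hgf
    obtain ⟨g', hg', h⟩ := hga
    have := horb (k * g') (H.mul_mem hk hg')
    rwa [Perm.mul_apply, h] at this

/-- The centraliser of `x` in the stabiliser is trivial. -/
theorem centralizer_trivial {p q r s : α} {x w : Perm α} (C : Cfg G p q r s x w) {k : Perm α}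
    (hk : k ∈ fix4 G p q r s) (hkx : Commute x k) : k = 1 := by
  obtain ⟨f, fr, fs, fp, fq, hxf, -⟩ := F.cfg_third hodd C
  obtain ⟨kG, kp, kq, kr, ks⟩ := hk
  have kf : k f = f := F.commute_third hodd C.d C.xG C.xx C.x_ne C.xr C.xs fr fs hxf ⟨kG, kp, kq, kr, ks⟩ hkx
  refine Equiv.ext fun z => ?_
  rw [Perm.one_apply]
  by_cases hxz : x z = z
  · rcases F.fixed_eq C.xG C.xx C.x_ne C.d.cd fr.symm fs.symm C.xr C.xs hxf hxz with rfl | rfl | rfl <;> assumption
  by_cases zp : z = p
  · rw [zp, kp]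
  by_cases zq : z = q
  · rw [zq, kq]
  obtain ⟨t, ht, htt, htc, tp, tq, tz, tz'⟩ := F.exists_pair_invol C.d.ab C.xG C.xx C.xp hxz zp zq
  have ht1 : t ≠ 1 := fun e => hxz (by rw [e, Perm.one_apply] at tz; exact tz.symm)
  obtain ⟨g, gp, gq, hg⟩ := F.odd_third hodd htt C.d.ab tp tq
  have hxg : x g = g := by
    have e : t (x g) = x g := by rw [← comm_apply htc, hg]
    rcases F.fixed_eq ht htt ht1 C.d.ab gp.symm gq.symm tp tq hg e with h | h | h
    · exact absurd (x.injective (h.trans C.xq.symm)) gq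
    · exact absurd (x.injective (h.trans C.xp.symm)) gp
    · exact h
  have hF : ∀ e, x e = e → e = r ∨ e = s ∨ e = f := fun e he =>
    F.fixed_eq C.xG C.xx C.x_ne C.d.cd fr.symm fs.symm C.xr C.xs hxf he
  have gen : ∀ r' s', r' ≠ s' → g ≠ r' → g ≠ s' → x r' = r' → x s' = s' → k r' = r' → k s' = s' → k z = z := by
    intro r' s' h1 h2 h3 hr' hs' kr' ks'
    have ne : ∀ {e}, x e = e → p ≠ e ∧ q ≠ e := fun {e} he =>
      ⟨fun i => C.d.ab (by rw [← i, C.xp] at he; exact he.symm), fun i => C.d.ab (by rw [← i, C.xq] at he; exact he)⟩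
    have hd : D4 p q r' s' := ⟨C.d.ab, (ne hr').1, (ne hs').1, (ne hr').2, (ne hs').2, h1⟩
    have htr : x (t r') = t r' := by rw [comm_apply htc, hr']
    have hts : t r' = s' := by
      rcases F.fixed_eq C.xG C.xx C.x_ne h1 h2.symm h3.symm hr' hs' hxg htr with e | e | e
      · rcases F.fixed_eq ht htt ht1 C.d.ab gp.symm gq.symm tp tq hg e with h | h | h
        exacts [absurd h.symm hd.ac, absurd h.symm hd.bc, absurd h.symm h2]
      · exact e
      · exact absurd (t.injective (e.trans hg.symm)) h2.symm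
    exact F.pair_fixed hodd ⟨hd, C.xG, ht, C.xx, htt, htc, C.xp, hr', hs', tp, tq, hts⟩ hxz tz
      ⟨kG, kp, kq, kr', ks'⟩ hkx
  rcases hF g hxg with rfl | rfl | rfl
  · exact gen s f fs.symm C.d.cd fr.symm C.xs hxf ks kf
  · exact gen r f fr.symm C.d.cd.symm fs.symm C.xr hxf kr kf
  · exact gen r s C.d.cd fr fs C.xr C.xs kr ks

/-- The degree is at most `11` and different from `9`. -/
theorem odd_degree (h5 : 5 ≤ Fintype.card α) : Fintype.card α ≤ 11 ∧ Fintype.card α ≠ 9 := by
  classical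
  obtain ⟨e⟩ : Nonempty (Fin 4 ↪ α) := Function.Embedding.nonempty_of_card_le (by simpa using (by omega : 4 ≤ Fintype.card α))
  have ne : ∀ {i j : Fin 4}, i ≠ j → e i ≠ e j := fun h h' => h (e.injective h')
  generalize hp : e 0 = p, hq : e 1 = q, hr : e 2 = r, hs : e 3 = s
  have hd : D4 p q r s := by subst hp hq hr hs; exact ⟨ne (by decide), ne (by decide), ne (by decide), ne (by decide), ne (by decide), ne (by decide)⟩
  obtain ⟨x, hx, hxx, xp, -, xr, xs⟩ := F.exists_single hd
  obtain ⟨w, C⟩ := F.exists_cfg hd hx hxx xp xr xs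
  obtain ⟨f, fr, fs, fp, fq, hxf, -⟩ := F.cfg_third hodd C
  let W := {t : Perm α // t ∈ G ∧ t * t = 1 ∧ x * t = t * x ∧ t p = p ∧ t q = q ∧ t ≠ 1}
  let M := {z : α // x z ≠ z ∧ z ≠ p ∧ z ≠ q}
  -- each such involution fixes a point of `{r, s, f}`
  have third : ∀ t : W, ∃ g, g ≠ p ∧ g ≠ q ∧ t.1 g = g ∧ x g = g := by
    rintro ⟨t, ht, htt, htc, tp, tq, ht1⟩
    obtain ⟨g, gp, gq, hg⟩ := F.odd_third hodd htt C.d.ab tp tq
    refine ⟨g, gp, gq, hg, ?_⟩
    have e : t (x g) = x g := by rw [← comm_apply htc, hg]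
    rcases F.fixed_eq ht htt ht1 C.d.ab gp.symm gq.symm tp tq hg e with h | h | h
    · exact absurd (x.injective (h.trans C.xq.symm)) gq
    · exact absurd (x.injective (h.trans C.xp.symm)) gp
    · exact h
  choose g gp gq htg hxg using third
  have hginj : Function.Injective fun t : W => (⟨g t, hxg t⟩ : {e : α // x e = e}) := by
    intro t t' h
    have hg : g t = g t' := congrArg Subtype.val h
    obtain ⟨t, ht, htt, htc, tp, tq, ht1⟩ := t
    obtain ⟨t', ht', htt', htc', tp', tq', ht1'⟩ := t'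
    -- two other fixed points of `x`
    obtain ⟨r', s', h1, h2, h3, hr', hs'⟩ : ∃ r' s', r' ≠ s' ∧ g ⟨t, ht, htt, htc, tp, tq, ht1⟩ ≠ r' ∧
        g ⟨t, ht, htt, htc, tp, tq, ht1⟩ ≠ s' ∧ x r' = r' ∧ x s' = s' := by
      rcases F.fixed_eq C.xG C.xx C.x_ne C.d.cd fr.symm fs.symm C.xr C.xs hxf
        (hxg ⟨t, ht, htt, htc, tp, tq, ht1⟩) with e | e | e <;> rw [e]
      · exact ⟨s, f, fs.symm, C.d.cd, fr.symm, C.xs, hxf⟩
      · exact ⟨r, f, fr.symm, C.d.cd.symm, fs.symm, C.xr, hxf⟩
      · exact ⟨r, s, C.d.cd, fr, fs, C.xr, C.xs⟩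
    have ne : ∀ {e}, x e = e → p ≠ e ∧ q ≠ e := fun {e} he =>
      ⟨fun i => C.d.ab (by rw [← i, C.xp] at he; exact he.symm), fun i => C.d.ab (by rw [← i, C.xq] at he; exact he)⟩
    have hd' : D4 p q r' s' := ⟨C.d.ab, (ne hr').1, (ne hs').1, (ne hr').2, (ne hs').2, h1⟩
    have act : ∀ u : W, g u = g ⟨t, ht, htt, htc, tp, tq, ht1⟩ → u.1 r' = s' := by
      rintro ⟨u, hu, huu, huc, up, uq, hu1⟩ hgu
      have hgu' : u (g ⟨t, ht, htt, htc, tp, tq, ht1⟩) = g ⟨t, ht, htt, htc, tp, tq, ht1⟩ := by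
        have h := htg ⟨u, hu, huu, huc, up, uq, hu1⟩
        rwa [hgu] at h
      have hur : x (u r') = u r' := by rw [comm_apply huc, hr']
      rcases F.fixed_eq C.xG C.xx C.x_ne h1 h2.symm h3.symm hr' hs' (hxg _) hur with e | e | e
      · rcases F.fixed_eq hu huu hu1 C.d.ab (gp _).symm (gq _).symm up uq hgu' e with i | i | i
        exacts [absurd i.symm hd'.ac, absurd i.symm hd'.bc, absurd i.symm h2]
      · exact e
      · exact absurd (u.injective (e.trans hgu'.symm)) h2.symm
    have e1 : t r' = s' := act _ rfl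
    have e2 : t' r' = s' := act _ hg.symm
    have e1' : t s' = r' := by rw [← e1]; exact apply_apply_of_mul_self htt r'
    have e2' : t' s' = r' := by rw [← e2]; exact apply_apply_of_mul_self htt' r'
    obtain ⟨k, hk, hkt, hkc⟩ := F.exists_conj hd' ht htt ht' htt' (by rw [tp, tp']) (by rw [tq, tq'])
      (by rw [e1, e2']) (by rw [e1', e2])
    have hk1 : k = 1 :=
      F.centralizer_trivial hodd ⟨hd', C.xG, ht, C.xx, htt, htc, C.xp, hr', hs', tp, tq, e1⟩ hk (hkc x htc htc')
    rw [hk1, one_mul, inv_one, mul_one] at hkt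
    exact Subtype.ext hkt
  have hW : Nat.card W ≤ 3 := by
    refine (Nat.card_le_card_of_injective _ hginj).trans ?_
    rw [show {e : α // x e = e} = ↥{e : α | x e = e} from rfl, Nat.card_coe_set_eq]
    refine (Set.ncard_le_ncard (t := ({r, s, f} : Set α)) (fun e he => F.fixed_eq C.xG C.xx C.x_ne C.d.cd fr.symm fs.symm C.xr C.xs hxf he) (Set.toFinite _)).trans ?_
    exact (Set.ncard_insert_le _ _).trans (Nat.succ_le_succ ((Set.ncard_insert_le _ _).trans (by rw [Set.ncard_singleton])))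
  have hpair : ∀ z : M, ∃ t : W, t.1 z.1 = x z.1 := by
    rintro ⟨z, hz, zp, zq⟩
    obtain ⟨t, ht, htt, htc, tp, tq, tz, -⟩ := F.exists_pair_invol C.d.ab C.xG C.xx C.xp hz zp zq
    exact ⟨⟨t, ht, htt, htc, tp, tq, fun e => hz (by rw [e, Perm.one_apply] at tz; exact tz.symm)⟩, tz⟩
  choose φ hφ using hpair
  -- each involution serves at most one pair
  have hone : ∀ (t : W) (z z' : α), x z ≠ z → x z' ≠ z' → t.1 z = x z → t.1 z' = x z' → z' = z ∨ z' = x z := by
    intro t z z' hz hz' tz tz'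
    obtain ⟨tG, tt, tc, tp, tq, t1⟩ := t.2
    have hyy : (x * t.1) * (x * t.1) = 1 := by
      rw [show x * t.1 * (x * t.1) = x * (t.1 * x) * t.1 by group, ← tc, ← mul_assoc, C.xx, one_mul, tt]
    have hyz : ∀ u, t.1 u = x u → (x * t.1) u = u := fun u hu => by
      rw [Perm.mul_apply, hu, apply_apply_of_mul_self C.xx]
    have hy1 : x * t.1 ≠ 1 := fun e => C.d.ab (by
      have := congrArg (fun g : Perm α => g p) e
      simpa [tp, C.xp] using this.symm)
    have htxz : t.1 (x z) = x (x z) := by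
      rw [apply_apply_of_mul_self C.xx, ← tz]; exact apply_apply_of_mul_self tt z
    have n1 : z ≠ g t := fun e => hz (by rw [e]; exact hxg t)
    have n2 : x z ≠ g t := fun e => hz (by
      have := congrArg x e
      rw [apply_apply_of_mul_self C.xx, hxg t, ← e] at this
      exact this.symm)
    rcases F.fixed_eq (G.mul_mem C.xG tG) hyy hy1 hz.symm n1 n2 (hyz z tz) (hyz _ htxz)
      (hyz _ ((htg t).trans (hxg t).symm)) (hyz z' tz') with e | e | e
    · exact Or.inl e
    · exact Or.inr e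
    · exact absurd (by rw [e]; exact hxg t) hz'
  have := Fintype.ofFinite W
  have hM : (Finset.univ.filter fun z => x z ≠ z ∧ z ≠ p ∧ z ≠ q).card ≤ 2 * Fintype.card W := by
    have hf : ∀ z ∈ (Finset.univ.filter fun z => x z ≠ z ∧ z ≠ p ∧ z ≠ q),
        ∃ t : W, t.1 z = x z := fun z hz => ⟨φ ⟨z, (Finset.mem_filter.1 hz).2⟩, hφ ⟨z, (Finset.mem_filter.1 hz).2⟩⟩
    have key : ∀ t : W, ((Finset.univ.filter fun z => x z ≠ z ∧ z ≠ p ∧ z ≠ q).filter fun z => t.1 z = x z).card ≤ 2 := by
      intro t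
      rcases ((Finset.univ.filter fun z => x z ≠ z ∧ z ≠ p ∧ z ≠ q).filter fun z => t.1 z = x z).eq_empty_or_nonempty with h | ⟨z, hz⟩
      · rw [h]; simp
      · refine (Finset.card_le_card (t := {z, x z}) fun z' hz' => ?_).trans Finset.card_le_two
        simp only [Finset.mem_filter, Finset.mem_univ, true_and] at hz hz'
        simpa using hone t z z' hz.1.1 hz'.1.1 hz.2 hz'.2
    calc _ ≤ (Finset.univ.biUnion fun t : W => (Finset.univ.filter fun z => x z ≠ z ∧ z ≠ p ∧ z ≠ q).filter fun z => t.1 z = x z).card :=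
          Finset.card_le_card fun z hz => by
            obtain ⟨t, ht⟩ := hf z hz
            exact Finset.mem_biUnion.2 ⟨t, Finset.mem_univ _, Finset.mem_filter.2 ⟨hz, ht⟩⟩
      _ ≤ ∑ t : W, ((Finset.univ.filter fun z => x z ≠ z ∧ z ≠ p ∧ z ≠ q).filter fun z => t.1 z = x z).card := Finset.card_biUnion_le
      _ ≤ ∑ _t : W, 2 := Finset.sum_le_sum fun t _ => key t
      _ = 2 * Fintype.card W := by rw [Finset.sum_const, Finset.card_univ, smul_eq_mul, mul_comm]
  have hcompl : (Finset.univ.filter fun z => x z ≠ z ∧ z ≠ p ∧ z ≠ q) = ({p, q, r, s, f} : Finset α)ᶜ := by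
    ext z
    simp only [Finset.mem_filter, Finset.mem_univ, true_and, Finset.mem_compl, Finset.mem_insert, Finset.mem_singleton]
    constructor
    · rintro ⟨hz, zp, zq⟩ (h | h | h | h | h)
      exacts [zp h, zq h, hz (h ▸ C.xr), hz (h ▸ C.xs), hz (h ▸ hxf)]
    · intro h
      refine ⟨fun hz => ?_, fun e => h (Or.inl e), fun e => h (Or.inr (Or.inl e))⟩
      rcases F.fixed_eq C.xG C.xx C.x_ne C.d.cd fr.symm fs.symm C.xr C.xs hxf hz with e | e | e
      exacts [h (Or.inr (Or.inr (Or.inl e))), h (Or.inr (Or.inr (Or.inr (Or.inl e)))), h (Or.inr (Or.inr (Or.inr (Or.inr e))))]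
  have hcard : (Finset.univ.filter fun z => x z ≠ z ∧ z ≠ p ∧ z ≠ q).card = Fintype.card α - 5 := by
    rw [hcompl, Finset.card_compl, show ({p, q, r, s, f} : Finset α).card = 5 by
      simp [C.d.ab, C.d.ac, C.d.ad, C.d.bc, C.d.bd, C.d.cd, fp.symm, fq.symm, fr.symm, fs.symm]]
  rw [← Nat.card_eq_fintype_card (α := W)] at hM
  refine ⟨by omega, fun h9 => ?_⟩
  obtain ⟨z, hz⟩ : ∃ z, z ∈ Finset.univ.filter fun z => x z ≠ z ∧ z ≠ p ∧ z ≠ q :=
    Finset.card_pos.1 (by omega) 
  obtain ⟨z', hz'⟩ : ∃ z', z' ∈ (Finset.univ.filter fun z => x z ≠ z ∧ z ≠ p ∧ z ≠ q) \ {z, x z} :=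
    Finset.card_pos.1 (by
      have h1 := Finset.le_card_sdiff {z, x z} (Finset.univ.filter fun z => x z ≠ z ∧ z ≠ p ∧ z ≠ q)
      have h2 : ({z, x z} : Finset α).card ≤ 2 := Finset.card_le_two
      omega)
  simp only [Finset.mem_sdiff, Finset.mem_filter, Finset.mem_univ, true_and, Finset.mem_insert, Finset.mem_singleton, not_or] at hz hz'
  obtain ⟨⟨hxz', z'p, z'q⟩, z'z, z'xz⟩ := hz'
  obtain ⟨t, tz⟩ : ∃ t : W, t.1 z = x z := ⟨φ ⟨z, hz⟩, hφ ⟨z, hz⟩⟩
  obtain ⟨tG, tt, tc, tp, tq, t1⟩ := t.2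
  obtain ⟨hxz, zp, zq⟩ := hz
  -- the complement of `{p, q, r, s, f, z, x z}` is `{z', x z'}`
  have hxx' : ∀ u, x (x u) = u := apply_apply_of_mul_self C.xx
  have htt' : ∀ u, t.1 (t.1 u) = u := apply_apply_of_mul_self tt
  have hne : t.1 z' ∈ ({z', x z'} : Finset α) := by
    by_contra hnot
    simp only [Finset.mem_insert, Finset.mem_singleton, not_or] at hnot
    have hu : t.1 z' ∈ (Finset.univ.filter fun z => x z ≠ z ∧ z ≠ p ∧ z ≠ q) \ {z, x z, z', x z'} := by
      simp only [Finset.mem_sdiff, Finset.mem_filter, Finset.mem_univ, true_and, Finset.mem_insert, Finset.mem_singleton, not_or]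
      refine ⟨⟨fun e => hxz' (t.1.injective (by rw [← comm_apply tc]; exact e)), fun e => z'p (t.1.injective (e.trans tp.symm)),
        fun e => z'q (t.1.injective (e.trans tq.symm))⟩, fun e => z'xz ?_, fun e => z'z ?_, hnot.1, hnot.2⟩
      · rw [← htt' z', e, tz]
      · rw [← htt' z', e, ← tz, htt']
    have h4 : ({z, x z, z', x z'} : Finset α) ⊆ Finset.univ.filter fun z => x z ≠ z ∧ z ≠ p ∧ z ≠ q := by
      have key : ∀ u, x u ≠ u → u ≠ p → u ≠ q → x (x u) ≠ x u ∧ x u ≠ p ∧ x u ≠ q := fun u a b c =>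
        ⟨fun e => a (x.injective e), fun e => c (x.injective (e.trans C.xq.symm)), fun e => b (x.injective (e.trans C.xp.symm))⟩
      intro u hu
      simp only [Finset.mem_insert, Finset.mem_singleton] at hu
      rw [Finset.mem_filter]
      rcases hu with rfl | rfl | rfl | rfl
      exacts [⟨Finset.mem_univ _, hxz, zp, zq⟩, ⟨Finset.mem_univ _, key z hxz zp zq⟩,
        ⟨Finset.mem_univ _, hxz', z'p, z'q⟩, ⟨Finset.mem_univ _, key z' hxz' z'p z'q⟩]
    have hc4 : ({z, x z, z', x z'} : Finset α).card = 4 := by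
      have a1 : z ≠ x z' := fun e => z'xz (by rw [e, hxx'])
      have a2 : x z ≠ x z' := fun e => z'z (x.injective e).symm
      simp [Ne.symm hxz, Ne.symm z'z, Ne.symm z'xz, a1, a2, Ne.symm hxz']
    have := Finset.card_pos.2 ⟨_, hu⟩
    rw [Finset.card_sdiff_of_subset h4] at this
    omega
  simp only [Finset.mem_insert, Finset.mem_singleton] at hne
  rcases hne with e | e
  · rcases F.fixed_eq tG tt t1 C.d.ab (gp t).symm (gq t).symm tp tq (htg t) e with i | i | i
    exacts [z'p i, z'q i, hxz' (i ▸ hxg t)]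
  · rcases hone t z z' hxz hxz' tz e with i | i
    exacts [z'z i, z'xz i]

set_option maxHeartbeats 1600000 in
/-- In degree `11` the action is sharply quadruply transitive. -/
theorem sharp_of_eleven (h11 : Fintype.card α = 11) {p q r s : α} (hd : D4 p q r s) :
    fix4 G p q r s = ⊥ := by
  obtain ⟨x, hx, hxx, xp, -, xr, xs⟩ := F.exists_single hd
  obtain ⟨w0, C0⟩ := F.exists_cfg hd hx hxx xp xr xs
  -- find a configuration on four points sharing `p`, `q` with a common pair
  obtain ⟨f, fr, fs, fp, fq, hxf, -⟩ := F.cfg_third hodd C0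
  have hfix : ∀ e, x e = e → e = r ∨ e = s ∨ e = f := fun e he =>
    F.fixed_eq C0.xG C0.xx C0.x_ne C0.d.cd fr.symm fs.symm C0.xr C0.xs hxf he
  obtain ⟨a, ha⟩ : ∃ a, a ∉ ({p, q, r, s, f} : Finset α) := by
    by_contra hall
    push Not at hall
    have := (Finset.card_le_card (s := Finset.univ) fun z _ => hall z).trans Finset.card_le_five
    rw [Finset.card_univ] at this
    omega
  simp only [Finset.mem_insert, Finset.mem_singleton, not_or] at ha
  have hxa : x a ≠ a := fun e => (hfix a e).elim ha.2.2.1 (fun h => h.elim ha.2.2.2.1 ha.2.2.2.2)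
  obtain ⟨t, ht, htt, htc, tp, tq, ta, -⟩ := F.exists_pair_invol C0.d.ab C0.xG C0.xx C0.xp hxa ha.1 ha.2.1
  have ht1 : t ≠ 1 := fun e => hxa (by rw [e, Perm.one_apply] at ta; exact ta.symm)
  obtain ⟨r', s', hts, hr', hs', hne⟩ : ∃ r' s', t r' = s' ∧ x r' = r' ∧ x s' = s' ∧ r' ≠ s' := by
    obtain ⟨g, gp, gq, hg⟩ := F.odd_third hodd htt C0.d.ab tp tq
    by_cases h1 : t r = r
    · have h2 : t s ≠ s := fun h2 => ht1 (F.invol_eq_one C0.d ht htt tp tq h1 h2)
      exact ⟨s, t s, rfl, C0.xs, by rw [comm_apply htc, C0.xs], Ne.symm h2⟩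
    · exact ⟨r, t r, rfl, C0.xr, by rw [comm_apply htc, C0.xr], Ne.symm h1⟩
  have ne : ∀ {e}, x e = e → p ≠ e ∧ q ≠ e := fun {e} he =>
    ⟨fun i => C0.d.ab (by rw [← i, C0.xp] at he; exact he.symm), fun i => C0.d.ab (by rw [← i, C0.xq] at he; exact he)⟩
  have C : Cfg G p q r' s' x t :=
    ⟨⟨C0.d.ab, (ne hr').1, (ne hs').1, (ne hr').2, (ne hs').2, hne⟩, C0.xG, ht, C0.xx, htt, htc, C0.xp,
      hr', hs', tp, tq, hts⟩
  -- transfer along `G`
  suffices hsharp : fix4 G p q r' s' = ⊥ by
    obtain ⟨g, hg, g1, g2, g3, g4⟩ := F.move hd C.d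
    refine eq_bot_iff.2 fun h hh => ?_
    have : g * h * g⁻¹ ∈ fix4 G p q r' s' := by
      obtain ⟨hG, h1, h2, h3, h4⟩ := hh
      refine ⟨G.mul_mem (G.mul_mem hg hG) (G.inv_mem hg), ?_, ?_, ?_, ?_⟩ <;> simp only [Perm.mul_apply]
      · rw [show g⁻¹ p = p from Perm.inv_eq_iff_eq.2 g1.symm, h1, g1]
      · rw [show g⁻¹ q = q from Perm.inv_eq_iff_eq.2 g2.symm, h2, g2]
      · rw [show g⁻¹ r' = r from Perm.inv_eq_iff_eq.2 g3.symm, h3, g3]
      · rw [show g⁻¹ s' = s from Perm.inv_eq_iff_eq.2 g4.symm, h4, g4]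
    rw [hsharp, mem_bot, conj_eq_one_iff] at this
    exact this
  obtain ⟨f', fr', fs', fp', fq', hxf', htf'⟩ := F.cfg_third hodd C
  refine eq_bot_iff.2 fun h hh => mem_bot.2 ?_
  obtain ⟨u, ⟨hu, huy, -⟩, v, ⟨hv, hvw, -⟩, k, ⟨hk, hkx⟩, rfl⟩ := (C.klein F).decomp hh
  rw [F.centralizer_trivial hodd C hk hkx, F.centralizer_trivial hodd C.symm'
    ⟨hv.1, hv.2.2.2.1, hv.2.2.2.2, hv.2.1, hv.2.2.1⟩ hvw, mul_one, mul_one]
  by_contra hu1
  have hyy := (C.klein F).yy
  set y := x * t with hydef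
  have hyG : y ∈ G := G.mul_mem C.xG C.wG
  have hxxa : x (x a) = a := apply_apply_of_mul_self C.xx a
  have htxa : t (x a) = a := by rw [← ta]; exact apply_apply_of_mul_self htt a
  have hya : y a = a := by rw [hydef, Perm.mul_apply, ta, hxxa]
  have hyb : y (x a) = x a := by rw [hydef, Perm.mul_apply, htxa]
  have hyf : y f' = f' := by rw [hydef, Perm.mul_apply, htf', hxf']
  have hfa : a ≠ f' := fun e => hxa (by rw [e, hxf'])
  have hfb : x a ≠ f' := fun e => hxa (by
    have h2 := congrArg x e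
    rw [hxxa, hxf'] at h2
    rw [e, h2])
  have hyfix : ∀ {z}, y z = z → z = a ∨ z = x a ∨ z = f' := fun hz =>
    F.fixed_eq hyG hyy C.y_ne hxa.symm hfa hfb hya hyb hyf hz
  obtain ⟨huG, up, uq, ur, us⟩ := hu
  have hu : u ∈ fix4 G p q r' s' := ⟨huG, up, uq, ur, us⟩
  let T : Finset α := {p, q, r', s', a, x a, f'}
  have hTc : T.card = 7 := by
    have n1 : p ≠ a := Ne.symm ha.1
    have n2 : q ≠ a := Ne.symm ha.2.1
    have n3 : p ≠ x a := fun e => ha.2.1 (x.injective ((e.symm.trans C.xq.symm)))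
    have n4 : q ≠ x a := fun e => ha.1 (x.injective ((e.symm.trans C.xp.symm)))
    have n5 : r' ≠ a := fun e => hxa (e ▸ hr')
    have n6 : s' ≠ a := fun e => hxa (e ▸ hs')
    have n7 : r' ≠ x a := fun e => n5 (x.injective (hr'.trans e))
    have n8 : s' ≠ x a := fun e => n6 (x.injective (hs'.trans e))
    simp [T, C.d.ab, C.d.ac, C.d.ad, C.d.bc, C.d.bd, C.d.cd, n1, n2, n3, n4, n5, n6, n7, n8,
      Ne.symm hxa, hfa, hfb, fp'.symm, fq'.symm, fr'.symm, fs'.symm]
  -- `u` fixes every point outside `T`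
  have huout : ∀ e, e ∉ T → u e = e := by
    intro e he
    simp only [T, Finset.mem_insert, Finset.mem_singleton, not_or] at he
    have hye : y e ≠ e := fun i => (hyfix i).elim he.2.2.2.2.1 (fun h => h.elim he.2.2.2.2.2.1 he.2.2.2.2.2.2)
    have hyn : ∀ z, y z ≠ z → ∀ {i}, y i = i → z ≠ i := fun z hz i hi h => hz (h ▸ hi)
    -- the four points outside `T`
    have hout : ∀ z, z ∉ T → y z ∉ T ∧ u z ∉ T := by
      intro z hz
      simp only [T, Finset.mem_insert, Finset.mem_singleton, not_or] at hz ⊢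
      have hyz : y z ≠ z := fun i => (hyfix i).elim hz.2.2.2.2.1 (fun h => h.elim hz.2.2.2.2.2.1 hz.2.2.2.2.2.2)
      have yp : y p = q := by rw [hydef, Perm.mul_apply, C.wp, C.xp]
      have yq : y q = p := by rw [hydef, Perm.mul_apply, C.wq, C.xq]
      have yr : y r' = s' := by rw [hydef, Perm.mul_apply, C.wr, C.xs]
      have ys : y s' = r' := by rw [hydef, Perm.mul_apply, C.ws, C.xr]
      have hyuz : y (u z) ≠ u z := fun i => hyz (u.injective (by rw [← comm_apply huy]; exact i))
      refine ⟨⟨fun i => hz.2.1 (y.injective (i.trans yq.symm)), fun i => hz.1 (y.injective (i.trans yp.symm)),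
        fun i => hz.2.2.2.1 (y.injective (i.trans ys.symm)), fun i => hz.2.2.1 (y.injective (i.trans yr.symm)),
        fun i => hz.2.2.2.2.1 (y.injective (i.trans hya.symm)), fun i => hz.2.2.2.2.2.1 (y.injective (i.trans hyb.symm)),
        fun i => hz.2.2.2.2.2.2 (y.injective (i.trans hyf.symm))⟩,
        fun i => hz.1 (u.injective (i.trans up.symm)), fun i => hz.2.1 (u.injective (i.trans uq.symm)),
        fun i => hz.2.2.1 (u.injective (i.trans ur.symm)), fun i => hz.2.2.2.1 (u.injective (i.trans us.symm)),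
        hyn _ hyuz hya, hyn _ hyuz hyb, hyn _ hyuz hyf⟩
    have heT : e ∉ T := by simpa [T] using he
    have hyy' : ∀ z, y (y z) = z := apply_apply_of_mul_self hyy
    by_contra hue
    have h1 : u e ≠ y e := fun i => hue (apply_eq_of_apply_apply (F.odd C.d) hu (by
      rw [i, ← comm_apply huy, i, hyy']))
    -- the orbit of `e` under `⟨u, y⟩` has more than four points
    have hs : ({e, y e, u e, y (u e), u (u e)} : Finset α) ⊆ Tᶜ := by
      intro z hz
      simp only [Finset.mem_insert, Finset.mem_singleton] at hz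
      rw [Finset.mem_compl]
      rcases hz with rfl | rfl | rfl | rfl | rfl
      exacts [heT, (hout e heT).1, (hout e heT).2, (hout _ (hout e heT).2).1, (hout _ (hout e heT).2).2]
    have h2 : u (u e) ≠ e := fun i => hue (apply_eq_of_apply_apply (F.odd C.d) hu i)
    have h3 : u (u e) ≠ u e := fun i => hue (u.injective i)
    have h4 : u (u e) ≠ y e := fun i => by
      have i2 : (u * u) ((u * u) e) = e := by
        simp only [Perm.mul_apply]
        rw [i, ← comm_apply huy, ← comm_apply huy, i, hyy']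
      have i3 := apply_eq_of_apply_apply (F.odd C.d) (mul_mem hu hu) i2
      exact h2 i3
    have h5 : u (u e) ≠ y (u e) := fun i => hue (u.injective (by
      refine apply_eq_of_apply_apply (F.odd C.d) hu ?_
      rw [i, ← comm_apply huy, i, hyy']))
    have h6 : y (u e) ≠ u e := fun i => hye (u.injective (by rw [← comm_apply huy]; exact i))
    have h7 : y (u e) ≠ e := fun i => h1 (by rw [← i, hyy', i])
    have h8 : y (u e) ≠ y e := fun i => hue (y.injective i)
    have hc := Finset.card_le_card hs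
    rw [Finset.card_compl, hTc, show ({e, y e, u e, y (u e), u (u e)} : Finset α).card = 5 by
      simp [Ne.symm hye, Ne.symm hue, Ne.symm h7, Ne.symm h2, Ne.symm h1, Ne.symm h8, Ne.symm h4, Ne.symm h6,
        Ne.symm h3, Ne.symm h5]] at hc
    omega
  -- hence `u` is a cycle on `{a, x a, f'}`
  have hmv : ∀ z, u z ≠ z → z = a ∨ z = x a ∨ z = f' := by
    intro z hz
    by_contra hne
    push Not at hne
    refine hz (huout z ?_)
    simp only [T, Finset.mem_insert, Finset.mem_singleton, not_or]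
    exact ⟨fun e => hz (e ▸ up), fun e => hz (e ▸ uq), fun e => hz (e ▸ ur), fun e => hz (e ▸ us), hne⟩
  have hua : u a ≠ a := by
    intro h
    refine hu1 (Equiv.ext fun z => by_contra fun hz => ?_)
    rw [Perm.one_apply] at hz
    have two : ∀ {i j : α}, u i ≠ i → (∀ l, u l ≠ l → l = i ∨ l = j) → u j ≠ j → False := by
      intro i j hi hl hj
      have e1 : u i = j := (hl _ fun e => hi (u.injective e)).resolve_left hi
      have e2 : u j = i := (hl _ fun e => hj (u.injective e)).resolve_right hj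
      exact hi (apply_eq_of_apply_apply (F.odd C.d) hu (by rw [e1, e2]))
    have hl : ∀ l, u l ≠ l → l = x a ∨ l = f' := fun l hl => (hmv l hl).resolve_left fun e => hl (e ▸ h)
    rcases hl z hz with i | i
    · subst i
      by_cases hf : u f' = f'
      · exact hz ((hl _ fun e => hz (u.injective e)).elim id fun j => absurd (u.injective (j.trans hf.symm)) hfb)
      · exact two hz hl hf
    · subst i
      by_cases hb : u (x a) = x a
      · exact hz ((hl _ fun e => hz (u.injective e)).elim (fun j => absurd (u.injective (j.trans hb.symm)) hfb.symm) id)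
      · exact two hb hl hz
  -- two conjugate `3`-cycles give an involution fixing four points
  obtain ⟨b, hb0⟩ : ∃ b, b = u a := ⟨_, rfl⟩
  obtain ⟨c, hc0⟩ : ∃ c, c = u b := ⟨_, rfl⟩
  have hab : a ≠ b := fun e => hua (hb0 ▸ e.symm)
  have hub : u b ≠ b := fun e => hab (u.injective (hb0.symm.trans e.symm))
  have hcb : c ≠ b := hc0 ▸ hub
  have hca : c ≠ a := fun e => hua (apply_eq_of_apply_apply (F.odd C.d) hu (by rw [← hb0, ← hc0, e]))
  have huc : u c ≠ c := fun e => hcb (u.injective (e.trans hc0))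
  have hset : ∀ z, u z ≠ z → z = a ∨ z = b ∨ z = c := by
    intro z hz
    have := hmv z hz; have := hmv b hub; have := hmv c huc
    grind
  have huc' : u c = a := by
    rcases hset _ (fun e => huc (u.injective e)) with i | i | i
    · exact i
    · exact absurd (u.injective (i.trans hb0)) hca
    · exact absurd i huc
  obtain ⟨d, hd'⟩ : ∃ d, d ∉ ({a, b, c} : Finset α) := by
    by_contra hall
    push Not at hall
    have := (Finset.card_le_card (s := Finset.univ) fun z _ => hall z).trans Finset.card_le_three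
    rw [Finset.card_univ] at this
    omega
  simp only [Finset.mem_insert, Finset.mem_singleton, not_or] at hd'
  obtain ⟨da, db, dc⟩ := hd'
  obtain ⟨g, hg, g1, g2, g3, g4⟩ := F.move (a := a) (b := b) (c := c) (d := d) (a' := a) (b' := b) (c' := d) (d' := c)
    ⟨hab, hca.symm, Ne.symm da, hcb.symm, Ne.symm db, Ne.symm dc⟩ ⟨hab, Ne.symm da, hca.symm, Ne.symm db, hcb.symm, dc⟩
  let u' := g * u * g⁻¹
  have hu' : u' ∈ G := G.mul_mem (G.mul_mem hg huG) (G.inv_mem hg)
  have hset' : ∀ z, u' z ≠ z → z = a ∨ z = b ∨ z = d := by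
    intro z hz
    have hz' : u (g⁻¹ z) ≠ g⁻¹ z := fun e => hz (by
      show g (u (g⁻¹ z)) = z
      rw [e]; exact g.apply_symm_apply z)
    rcases hset _ hz' with i | i | i <;> [left; (right; left); (right; right)] <;>
      [rw [← g1]; rw [← g2]; rw [← g3]] <;> exact (Perm.inv_eq_iff_eq.1 i)
  have e1 : u' a = b := by show g (u (g⁻¹ a)) = b; rw [show g⁻¹ a = a from Perm.inv_eq_iff_eq.2 g1.symm, ← hb0, g2]
  have e2 : u' b = d := by show g (u (g⁻¹ b)) = d; rw [show g⁻¹ b = b from Perm.inv_eq_iff_eq.2 g2.symm, ← hc0, g3]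
  have e3 : u' d = a := by show g (u (g⁻¹ d)) = a; rw [show g⁻¹ d = c from Perm.inv_eq_iff_eq.2 g3.symm, huc', g1]
  have ec : u' c = c := by_contra fun i => by rcases hset' c i with j | j | j <;> grind
  have ed : u d = d := by_contra fun i => (hset d i).elim da (fun h => h.elim db dc)
  have hm : (u * u') * (u * u') = 1 := by
    refine Equiv.ext fun z => ?_
    simp only [Perm.mul_apply, Perm.one_apply]
    by_cases i1 : z = a
    · subst i1; rw [e1, ← hc0, ec, huc']
    by_cases i2 : z = b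
    · subst i2; rw [e2, ed, e3, ← hb0]
    by_cases i3 : z = c
    · subst i3; rw [ec, huc', e1, ← hc0]
    by_cases i4 : z = d
    · subst i4; rw [e3, ← hb0, e2, ed]
    have j1 : u' z = z := by_contra fun i => (hset' z i).elim i1 (fun h => h.elim i2 i4)
    have j2 : u z = z := by_contra fun i => (hset z i).elim i1 (fun h => h.elim i2 i3)
    rw [j1, j2, j1, j2]
  obtain ⟨em⟩ : Nonempty (Fin 4 ↪ {z : α // z ∉ ({a, b, c, d} : Finset α)}) := by
    refine Function.Embedding.nonempty_of_card_le ?_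
    rw [Fintype.card_fin, Fintype.card_subtype_compl]
    simp only [Fintype.card_coe]
    have := Finset.card_le_four (a := a) (b := b) (c := c) (d := d)
    omega
  have nem : ∀ {i j : Fin 4}, i ≠ j → (em i).1 ≠ (em j).1 := fun h h' => h (em.injective (Subtype.ext h'))
  have hfixed : ∀ i, (u * u') (em i).1 = (em i).1 := fun i => by
    have hz := (em i).2
    simp only [Finset.mem_insert, Finset.mem_singleton, not_or] at hz
    have j1 : u' (em i).1 = (em i).1 := by_contra fun j => (hset' _ j).elim hz.1 (fun h => h.elim hz.2.1 hz.2.2.2)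
    have j2 : u (em i).1 = (em i).1 := by_contra fun j => (hset _ j).elim hz.1 (fun h => h.elim hz.2.1 hz.2.2.1)
    rw [Perm.mul_apply, j1, j2]
  have h1 := F.invol_eq_one ⟨nem (by decide : (0 : Fin 4) ≠ 1), nem (by decide : (0 : Fin 4) ≠ 2),
    nem (by decide : (0 : Fin 4) ≠ 3), nem (by decide : (1 : Fin 4) ≠ 2), nem (by decide : (1 : Fin 4) ≠ 3),
    nem (by decide : (2 : Fin 4) ≠ 3)⟩ (G.mul_mem huG hu') hm (hfixed 0) (hfixed 1) (hfixed 2) (hfixed 3)
  have := congrArg (fun m : Perm α => m a) h1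
  simp only [Perm.mul_apply, e1, ← hc0, Perm.one_apply] at this
  exact hca this

end FT

end CfsgLib.FourTransOdd
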