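import Mathlib
import Cfsg.Agent.Lib.FourTransOdd.Even
import Cfsg.Agent.Lib.FourTransOdd.Odd

/-!
M. Hall's theorem on quadruply transitive groups whose four point stabiliser has odd order.
-/

open Subgroup Equiv

set_option autoImplicit false
set_option linter.unusedSectionVars false

namespace CfsgLib.FourTransOdd

variable {α : Type*} [Fintype α] [DecidableEq α]

theorem stabilizer_map_eq (G : Subgroup (Perm α)) (y : Fin 4 ↪ α) :
    (MulAction.stabilizer G y).map G.subtype = fix4 G (y 0) (y 1) (y 2) (y 3) := by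
  ext g
  rw [Subgroup.mem_map, mem_fix4]
  constructor
  · rintro ⟨⟨g, hg⟩, h, rfl⟩
    rw [MulAction.mem_stabilizer_iff] at h
    have e : ∀ i, g (y i) = y i := fun i => congrArg (fun z : Fin 4 ↪ α => z i) h
    exact ⟨hg, e 0, e 1, e 2, e 3⟩
  · rintro ⟨hg, h0, h1, h2, h3⟩
    refine ⟨⟨g, hg⟩, ?_, rfl⟩
    rw [MulAction.mem_stabilizer_iff]
    ext i
    show g (y i) = y i
    fin_cases i
    exacts [h0, h1, h2, h3]

/-- The four points as an embedding. -/
def D4.emb {a b c d : α} (h : D4 a b c d) : Fin 4 ↪ α :=
  ⟨![a, b, c, d], by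
    obtain ⟨h1, h2, h3, h4, h5, h6⟩ := h
    intro i j e
    fin_cases i <;> fin_cases j <;>
      first
        | rfl
        | exact absurd e h1 | exact absurd e h2 | exact absurd e h3 | exact absurd e h4
        | exact absurd e h5 | exact absurd e h6
        | exact absurd e.symm h1 | exact absurd e.symm h2 | exact absurd e.symm h3
        | exact absurd e.symm h4 | exact absurd e.symm h5 | exact absurd e.symm h6⟩

theorem index_stabilizer_four {Γ β : Type*} [Group Γ] [MulAction Γ β]
    [hh : MulAction.IsMultiplyPretransitive Γ β 4] (y : Fin 4 ↪ β) :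
    (MulAction.stabilizer Γ y).index = Nat.card (Fin 4 ↪ β) :=
  @MulAction.index_stabilizer_of_transitive Γ (Fin 4 ↪ β) _ _ y hh

theorem card_stabilizer (G : Subgroup (Perm α)) {a b c d : α} (h : D4 a b c d) :
    Nat.card (MulAction.stabilizer G h.emb) = Nat.card (fix4 G a b c d) := by
  rw [← card_map_of_injective G.subtype_injective, stabilizer_map_eq]
  rfl

theorem card_eq_mul (G : Subgroup (Perm α)) [h4 : MulAction.IsMultiplyPretransitive G α 4] {a b c d : α}
    (h : D4 a b c d) :
    Nat.card G = (Fintype.card α).descFactorial 4 * Nat.card (fix4 G a b c d) := by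
  have h1 : (MulAction.stabilizer G h.emb).index = Nat.card (Fin 4 ↪ α) := index_stabilizer_four (hh := h4) h.emb
  rw [Nat.card_eq_fintype_card (α := Fin 4 ↪ α), Fintype.card_embedding_eq, Fintype.card_fin] at h1
  rw [← card_stabilizer G h, ← h1, mul_comm, card_mul_index]

theorem ft_of_stabilizer (G : Subgroup (Perm α)) [h4 : MulAction.IsMultiplyPretransitive G α 4]
    (x : Fin 4 ↪ α) (hodd : Odd (Nat.card (MulAction.stabilizer G x))) : FT G := by
  refine ⟨fun {a b c d a' b' c' d'} h h' => ?_, fun {a b c d} h => ?_⟩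
  · obtain ⟨g, hg⟩ := MulAction.isMultiplyPretransitive_iff.1 h4 h.emb h'.emb
    exact ⟨g, g.2, congrArg (fun z : Fin 4 ↪ α => z 0) hg, congrArg (fun z : Fin 4 ↪ α => z 1) hg,
      congrArg (fun z : Fin 4 ↪ α => z 2) hg, congrArg (fun z : Fin 4 ↪ α => z 3) hg⟩
  · rw [← card_stabilizer G h]
    have h1 := (MulAction.stabilizer G x).card_mul_index
    have h2 := (MulAction.stabilizer G h.emb).card_mul_index
    have i1 : (MulAction.stabilizer G x).index = Nat.card (Fin 4 ↪ α) := index_stabilizer_four (hh := h4) x
    have i2 : (MulAction.stabilizer G h.emb).index = Nat.card (Fin 4 ↪ α) := index_stabilizer_four (hh := h4) h.emb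
    rw [i1] at h1; rw [i2] at h2
    have : 0 < Nat.card (Fin 4 ↪ α) := Nat.pos_of_ne_zero fun e => by
      rw [e, mul_zero] at h1; exact Nat.card_pos.ne h1
    rwa [Nat.eq_of_mul_eq_mul_right this (h2.trans h1.symm)]

theorem core_index_dvd (G : Subgroup (Perm α)) : G.normalCore.index ∣ G.index.factorial := by
  rw [normalCore_eq_ker, index_ker]
  refine (card_subgroup_dvd_card _).trans ?_
  rw [Nat.card_perm]
  rfl

/-- M. Hall's theorem. -/
theorem main (G : Subgroup (Perm α)) [MulAction.IsMultiplyPretransitive G α 4] (x : Fin 4 ↪ α)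
    (hodd : Odd (Nat.card (MulAction.stabilizer G x))) :
    ((Fintype.card α = 4 ∨ Fintype.card α = 5) ∧ G = ⊤) ∨
      ((Fintype.card α = 6 ∨ Fintype.card α = 7) ∧ G = alternatingGroup α) ∨
      (Fintype.card α = 11 ∧ Nat.card G = 7920) := by
  have F := ft_of_stabilizer G x hodd
  have ne : ∀ {i j : Fin 4}, i ≠ j → x i ≠ x j := fun h h' => h (x.injective h')
  have hd : D4 (x 0) (x 1) (x 2) (x 3) :=
    ⟨ne (by decide), ne (by decide), ne (by decide), ne (by decide), ne (by decide), ne (by decide)⟩
  have h4 : 4 ≤ Fintype.card α := by simpa using Fintype.card_le_of_embedding x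
  have hcard := card_eq_mul G hd
  set k := Nat.card (fix4 G (x 0) (x 1) (x 2) (x 3)) with hk
  have hk0 : 0 < k := Nat.card_pos
  have hkodd : Odd k := F.odd hd
  have hperm : Nat.card (Perm α) = (Fintype.card α).factorial := by rw [Nat.card_perm, Nat.card_eq_fintype_card]
  have hindex := G.card_mul_index
  rw [hperm, hcard] at hindex
  rcases (show Fintype.card α = 4 ∨ Fintype.card α = 5 ∨ Fintype.card α = 6 ∨ Fintype.card α = 7 ∨ Fintype.card α = 11 by
    rcases Nat.even_or_odd (Fintype.card α) with hev | hod
    · have := F.even_le_six hev; rw [Nat.even_iff] at hev; omega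
    · obtain ⟨h1, h2⟩ := F.odd_degree hod (by rw [Nat.odd_iff] at hod; omega)
      rw [Nat.odd_iff] at hod; omega) with hn | hn | hn | hn | hn
  · refine Or.inl ⟨Or.inl hn, index_eq_one.1 ?_⟩
    rw [hn] at hindex
    norm_num [Nat.descFactorial, Nat.factorial] at hindex
    exact Nat.eq_one_of_mul_eq_one_left (show k * G.index = 1 by nlinarith)
  · refine Or.inl ⟨Or.inr hn, index_eq_one.1 ?_⟩
    rw [hn] at hindex
    norm_num [Nat.descFactorial, Nat.factorial] at hindex
    exact Nat.eq_one_of_mul_eq_one_left (show k * G.index = 1 by nlinarith)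
  · refine Or.inr (Or.inl ⟨Or.inl hn, Perm.eq_alternatingGroup_of_index_eq_two ?_⟩)
    rw [hn] at hindex
    norm_num [Nat.descFactorial, Nat.factorial] at hindex
    have h2 : k * G.index = 2 := by nlinarith
    rcases (Nat.dvd_prime Nat.prime_two).1 (Dvd.intro _ h2) with e | e
    · rw [e] at h2; omega
    · rw [e] at hkodd; exact absurd hkodd (by decide)
  · refine Or.inr (Or.inl ⟨Or.inr hn, Perm.eq_alternatingGroup_of_index_eq_two ?_⟩)
    rw [hn] at hindex
    norm_num [Nat.descFactorial, Nat.factorial] at hindex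
    have h6 : k * G.index = 6 := by nlinarith
    have hle : k ≤ 6 := Nat.le_of_dvd (by norm_num) (Dvd.intro _ h6)
    interval_cases k
    · exfalso
      -- index `6`
      have h5 : 5 ≤ Nat.card α := by rw [Nat.card_eq_fintype_card]; omega
      have hdvd := core_index_dvd G
      rw [show G.index = 6 by omega] at hdvd
      have hnt : Nontrivial G.normalCore := by
        rw [nontrivial_iff_ne_bot]
        intro e
        rw [e, index_bot, hperm, hn] at hdvd
        norm_num [Nat.factorial] at hdvd
      have hA := (Perm.alternatingGroup_le_of_normal h5 hnt).trans G.normalCore_le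
      haveI : Nontrivial α := Fintype.one_lt_card_iff_nontrivial.1 (by omega)
      have := index_dvd_of_le hA
      rw [alternatingGroup.index_eq_two, show G.index = 6 by omega] at this
      norm_num at this
    all_goals first
      | omega
      | exact absurd hkodd (by decide)
  · refine Or.inr (Or.inr ⟨hn, ?_⟩)
    have hs := F.sharp_of_eleven (by rw [hn]; decide) hn hd
    rw [hcard, hk, hs, card_bot, hn]
    rfl

end CfsgLib.FourTransOdd
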